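import Mathlib

/-!
In an alternating group of degree at least six every involution is a product of squares of
elements commuting with it; consequently, by transfer to its centraliser, a central involution of
a Sylow 2-subgroup lies in the kernel of every homomorphism of that subgroup to a group of order two.
-/

set_option autoImplicit false
set_option linter.unusedSimpArgs false

namespace CfsgLib.TwoTimesAlt

open Equiv

variable {α : Type*} [Fintype α] [DecidableEq α]

omit [Fintype α] in
theorem commute_swap {y : Perm α} {p q : α}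
    (h : (y p = q ∧ y q = p) ∨ (y p = p ∧ y q = q)) : y * swap p q = swap p q * y := by
  rw [mul_swap_eq_swap_mul]
  rcases h with ⟨h1, h2⟩ | ⟨h1, h2⟩ <;> rw [h1, h2]
  rw [swap_comm]

omit [Fintype α] in
theorem root_sq {a b c d : α} (hab : a ≠ b) (hac : a ≠ c) (had : a ≠ d) (hbc : b ≠ c)
    (hbd : b ≠ d) (hcd : c ≠ d) :
    (swap a b * swap a c * swap b d) * (swap a b * swap a c * swap b d) = swap a b * swap c d := by
  ext x
  by_cases xa : x = a
  · subst xa; simp [swap_apply_def, hab, hac, had, hbc, hbd, hcd, Ne.symm hab, Ne.symm hac,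
      Ne.symm had, Ne.symm hbc, Ne.symm hbd, Ne.symm hcd]
  by_cases xb : x = b
  · subst xb; simp [swap_apply_def, hab, hac, had, hbc, hbd, hcd, Ne.symm hab, Ne.symm hac,
      Ne.symm had, Ne.symm hbc, Ne.symm hbd, Ne.symm hcd]
  by_cases xc : x = c
  · subst xc; simp [swap_apply_def, hab, hac, had, hbc, hbd, hcd, Ne.symm hab, Ne.symm hac,
      Ne.symm had, Ne.symm hbc, Ne.symm hbd, Ne.symm hcd]
  by_cases xd : x = d
  · subst xd; simp [swap_apply_def, hab, hac, had, hbc, hbd, hcd, Ne.symm hab, Ne.symm hac,
      Ne.symm had, Ne.symm hbc, Ne.symm hbd, Ne.symm hcd]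
  simp [swap_apply_def, xa, xb, xc, xd]

/-- The squares of even permutations commuting with `y` generate this subgroup. -/
def sqSub (y : Perm α) : Subgroup (Perm α) :=
  Subgroup.closure {x | ∃ w ∈ alternatingGroup α, w * y = y * w ∧ x = w * w}

theorem double_mem (h6 : 6 ≤ Fintype.card α) {y : Perm α} (hy : y * y = 1) {a c : α}
    (ha : y a ≠ a) (hc : y c ≠ c) (hca : c ≠ a) (hcb : c ≠ y a) :
    swap a (y a) * swap c (y c) ∈ sqSub y := by
  have inv : ∀ x, y (y x) = x := fun x => by rw [← Perm.mul_apply, hy, Perm.one_apply]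
  have hda : y c ≠ a := fun h => hcb (by rw [← h, inv])
  have hdb : y c ≠ y a := fun h => hca (y.injective h)
  set b := y a with hb
  set d := y c with hd
  set w := swap a b * swap a c * swap b d with hwdef
  have hws : Perm.sign w = -1 := by
    rw [hwdef, map_mul, map_mul, Perm.sign_swap (Ne.symm ha), Perm.sign_swap hca.symm,
      Perm.sign_swap hdb.symm]
    decide
  have hdis : swap a c * swap b d = swap b d * swap a c := by
    refine commute_swap (Or.inr ⟨?_, ?_⟩)
    · exact swap_apply_of_ne_of_ne ha hcb.symm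
    · exact swap_apply_of_ne_of_ne hda hc
  have hwy : w * y = y * w := by
    have e1 : y * swap a b = swap a b * y := commute_swap (Or.inl ⟨rfl, inv a⟩)
    have e2 : y * swap a c = swap b d * y := mul_swap_eq_swap_mul y a c
    have e3 : y * swap b d = swap a c * y := by
      rw [mul_swap_eq_swap_mul, hb, hd, inv, inv]
    calc w * y = swap a b * (swap a c * swap b d) * y := by rw [hwdef]; group
      _ = swap a b * (swap b d * swap a c) * y := by rw [hdis]
      _ = swap a b * swap b d * (swap a c * y) := by group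
      _ = swap a b * swap b d * (y * swap b d) := by rw [e3]
      _ = swap a b * (swap b d * y) * swap b d := by group
      _ = swap a b * (y * swap a c) * swap b d := by rw [e2]
      _ = swap a b * y * (swap a c * swap b d) := by group
      _ = y * swap a b * (swap a c * swap b d) := by rw [e1]
      _ = y * w := by rw [hwdef]; group
  have houtside : ∀ x, x ∉ ({a, b, c, d} : Finset α) →
      w x = x ∧ y x ∉ ({a, b, c, d} : Finset α) := by
    intro x hx
    simp only [Finset.mem_insert, Finset.mem_singleton, not_or] at hx ⊢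
    refine ⟨?_, ?_, ?_, ?_, ?_⟩
    · rw [hwdef, Perm.mul_apply, Perm.mul_apply, swap_apply_of_ne_of_ne hx.2.1 hx.2.2.2,
        swap_apply_of_ne_of_ne hx.1 hx.2.2.1, swap_apply_of_ne_of_ne hx.1 hx.2.1]
    · exact fun h => hx.2.1 (by rw [hb, ← h, inv])
    · exact fun h => hx.1 (y.injective h)
    · exact fun h => hx.2.2.2 (by rw [hd, ← h, inv])
    · exact fun h => hx.2.2.1 (y.injective h)
  obtain ⟨p, q, hp, hq, hpq, hcomm⟩ : ∃ p q, p ∉ ({a, b, c, d} : Finset α) ∧
      q ∉ ({a, b, c, d} : Finset α) ∧ p ≠ q ∧ ((y p = q ∧ y q = p) ∨ (y p = p ∧ y q = q)) := by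
    have hlt : ({a, b, c, d} : Finset α).card < (Finset.univ : Finset α).card := by
      have := Finset.card_le_four (a := a) (b := b) (c := c) (d := d)
      rw [Finset.card_univ]; omega
    obtain ⟨p, -, hp⟩ := Finset.exists_mem_notMem_of_card_lt_card hlt
    by_cases hyp : y p = p
    · have hlt' : (insert p ({a, b, c, d} : Finset α)).card < (Finset.univ : Finset α).card := by
        have := Finset.card_insert_le p ({a, b, c, d} : Finset α)
        have := Finset.card_le_four (a := a) (b := b) (c := c) (d := d)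
        rw [Finset.card_univ]; omega
      obtain ⟨q, -, hq⟩ := Finset.exists_mem_notMem_of_card_lt_card hlt'
      rw [Finset.mem_insert, not_or] at hq
      by_cases hyq : y q = q
      · exact ⟨p, q, hp, hq.2, Ne.symm hq.1, Or.inr ⟨hyp, hyq⟩⟩
      · exact ⟨q, y q, hq.2, (houtside q hq.2).2, Ne.symm hyq, Or.inl ⟨rfl, inv q⟩⟩
    · exact ⟨p, y p, hp, (houtside p hp).2, Ne.symm hyp, Or.inl ⟨rfl, inv p⟩⟩
  have hwτ : w * swap p q = swap p q * w :=
    commute_swap (Or.inr ⟨(houtside p hp).1, (houtside q hq).1⟩)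
  have hyτ : y * swap p q = swap p q * y := commute_swap hcomm
  refine Subgroup.subset_closure ⟨w * swap p q, ?_, ?_, ?_⟩
  · rw [Perm.mem_alternatingGroup, map_mul, hws, Perm.sign_swap hpq]; decide
  · rw [mul_assoc, ← hyτ, ← mul_assoc, hwy, mul_assoc]
  · calc swap a b * swap c d = w * w := (root_sq (Ne.symm ha) hca.symm hda.symm hcb.symm hdb.symm
          (Ne.symm hc)).symm
      _ = w * (w * (swap p q * swap p q)) := by rw [swap_mul_self, mul_one]
      _ = w * (w * swap p q) * swap p q := by group
      _ = w * (swap p q * w) * swap p q := by rw [hwτ]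
      _ = w * swap p q * (w * swap p q) := by group

theorem mem_sqSub (h6 : 6 ≤ Fintype.card α) {y : Perm α} (hy : y * y = 1)
    (heven : y ∈ alternatingGroup α) : y ∈ sqSub y := by
  have inv : ∀ x, y (y x) = x := fun x => by rw [← Perm.mul_apply, hy, Perm.one_apply]
  suffices H : ∀ n (z : Perm α), z.support.card = n → z ∈ alternatingGroup α →
      (∀ x, z x = x ∨ z x = y x) → z ∈ sqSub y from H _ y rfl heven fun x => Or.inr rfl
  intro n
  induction n using Nat.strong_induction_on with
  | _ n ih =>
    intro z hz he hzy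
    rcases eq_or_ne z 1 with rfl | hz1
    · exact one_mem _
    have zinv : ∀ x, z x ≠ x → z x = y x ∧ z (y x) = x := by
      intro x hx
      have hx' : z x = y x := (hzy x).resolve_left hx
      refine ⟨hx', ?_⟩
      rcases hzy (y x) with h | h
      · exact absurd (z.injective (h.trans hx'.symm)) (fun e => hx (hx'.trans e))
      · rw [h, inv]
    obtain ⟨a, ha⟩ : ∃ a, z a ≠ a := by
      by_contra hall
      exact hz1 (Perm.ext fun x => not_not.1 fun h => hall ⟨x, h⟩)
    obtain ⟨hab, hba⟩ := zinv a ha
    have hya : y a ≠ a := hab ▸ ha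
    obtain ⟨c, hca, hcb, hc⟩ : ∃ c, c ≠ a ∧ c ≠ y a ∧ z c ≠ c := by
      by_contra hall
      push Not at hall
      have hzs : z = swap a (y a) := by
        refine Perm.ext fun x => ?_
        by_cases xa : x = a
        · rw [xa, hab, swap_apply_left]
        by_cases xb : x = y a
        · rw [xb, hba, swap_apply_right]
        · rw [hall x xa xb, swap_apply_of_ne_of_ne xa xb]
      rw [hzs, Perm.mem_alternatingGroup, Perm.sign_swap (Ne.symm hya)] at he
      exact absurd he (by decide)
    obtain ⟨hcd, hdc⟩ := zinv c hc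
    have hyc : y c ≠ c := hcd ▸ hc
    have hda : y c ≠ a := fun h => hcb (by rw [← h, inv])
    have hdb : y c ≠ y a := fun h => hca (y.injective h)
    set u := swap a (y a) * swap c (y c) with hu
    have uin : ∀ x, u (u x) = x := by
      intro x
      rw [hu, ← Perm.mul_apply, ← root_sq hya.symm hca.symm hda.symm hcb.symm hdb.symm hyc.symm]
      have hd : swap a (y a) * swap c (y c) = swap c (y c) * swap a (y a) := by
        refine commute_swap (Or.inr ⟨?_, ?_⟩)
        · exact swap_apply_of_ne_of_ne hca hcb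
        · exact swap_apply_of_ne_of_ne hda hdb
      rw [root_sq hya.symm hca.symm hda.symm hcb.symm hdb.symm hyc.symm]
      calc (swap a (y a) * swap c (y c) * (swap a (y a) * swap c (y c))) x
          = (swap a (y a) * (swap c (y c) * swap a (y a)) * swap c (y c)) x := by
            simp only [mul_assoc]
        _ = x := by rw [← hd]; simp
    set z' := u * z with hz'
    have hval : ∀ x, (x = a ∨ x = y a ∨ x = c ∨ x = y c) ∧ z' x = x ∨
        ¬ (x = a ∨ x = y a ∨ x = c ∨ x = y c) ∧ z' x = z x := by
      intro x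
      by_cases hx : x = a ∨ x = y a ∨ x = c ∨ x = y c
      · refine Or.inl ⟨hx, ?_⟩
        have : u x = z x := by
          rcases hx with rfl | rfl | rfl | rfl
          · rw [hab, hu, Perm.mul_apply, swap_apply_of_ne_of_ne hca.symm hda.symm, swap_apply_left]
          · rw [hba, hu, Perm.mul_apply, swap_apply_of_ne_of_ne hcb.symm hdb.symm, swap_apply_right]
          · rw [hcd, hu, Perm.mul_apply, swap_apply_left, swap_apply_of_ne_of_ne hda hdb]
          · rw [hdc, hu, Perm.mul_apply, swap_apply_right, swap_apply_of_ne_of_ne hca hcb]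
        rw [hz', Perm.mul_apply, ← this, uin]
      · refine Or.inr ⟨hx, ?_⟩
        simp only [not_or] at hx
        have h1 : z x ≠ a := fun h => hx.2.1 (z.injective (h.trans hba.symm))
        have h2 : z x ≠ y a := fun h => hx.1 (z.injective (h.trans hab.symm))
        have h3 : z x ≠ c := fun h => hx.2.2.2 (z.injective (h.trans hdc.symm))
        have h4 : z x ≠ y c := fun h => hx.2.2.1 (z.injective (h.trans hcd.symm))
        rw [hz', Perm.mul_apply, hu, Perm.mul_apply, swap_apply_of_ne_of_ne h3 h4,
          swap_apply_of_ne_of_ne h1 h2]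
    have hlt : z'.support.card < z.support.card := by
      refine Finset.card_lt_card ((Finset.ssubset_iff_of_subset ?_).2 ⟨a, Perm.mem_support.2 ha, ?_⟩)
      · intro x hx
        rcases hval x with ⟨_, h⟩ | ⟨_, h⟩
        · exact absurd h (Perm.mem_support.1 hx)
        · exact Perm.mem_support.2 (h ▸ Perm.mem_support.1 hx)
      · rcases hval a with ⟨_, h⟩ | ⟨hn, _⟩
        · exact fun hx => Perm.mem_support.1 hx h
        · exact absurd (Or.inl rfl) hn
    have hue : u ∈ alternatingGroup α := by
      rw [Perm.mem_alternatingGroup, hu, map_mul, Perm.sign_swap hya.symm, Perm.sign_swap hyc.symm]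
      decide
    have hrec := ih _ (hz ▸ hlt) z' rfl (mul_mem hue he) fun x => by
      rcases hval x with ⟨_, h⟩ | ⟨_, h⟩
      · exact Or.inl h
      · rw [h]; exact hzy x
    have : z = u * z' := Perm.ext fun x => (uin (z x)).symm
    rw [this]
    exact mul_mem (double_mem h6 hy hya hyc hca hcb) hrec

/-- The version inside the alternating group. -/
theorem alt_mem_closure_squares {n : ℕ} (hn : 6 ≤ n) (y : alternatingGroup (Fin n)) (hy : y * y = 1) :
    y ∈ Subgroup.closure {x | ∃ w, w * y = y * w ∧ x = w * w} := by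
  have hmem : (y : Perm (Fin n)) ∈ sqSub (y : Perm (Fin n)) :=
    mem_sqSub (by rwa [Fintype.card_fin]) (congrArg Subtype.val hy) y.2
  have hle : sqSub (y : Perm (Fin n)) ≤
      (Subgroup.closure {x : alternatingGroup (Fin n) | ∃ w, w * y = y * w ∧ x = w * w}).map
        (alternatingGroup (Fin n)).subtype := by
    rw [sqSub, Subgroup.closure_le]
    rintro _ ⟨w, hw, hwy, rfl⟩
    exact ⟨⟨w * w, mul_mem hw hw⟩,
      Subgroup.subset_closure ⟨⟨w, hw⟩, Subtype.ext hwy, rfl⟩, rfl⟩
  obtain ⟨x, hx, hxy⟩ := hle hmem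
  have hx' : x = y := Subtype.ext hxy
  subst hx'
  exact hx

/-- Transfer to the centraliser: a central involution of a Sylow 2-subgroup which is a product of
squares from its centraliser is killed by every homomorphism of the Sylow subgroup to a group of
exponent two. -/
theorem hom_eq_one_of_squares {H : Type*} [Group H] [Finite H] {M : Type*} [CommGroup M]
    (hM : ∀ m : M, m * m = 1) (P : Subgroup H) (hP : Odd P.index) (y : H) (hyP : y ∈ P)
    (hcen : ∀ p ∈ P, p * y = y * p) (hsq : y ∈ Subgroup.closure {x | ∃ w, w * y = y * w ∧ x = w * w})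
    (f : P →* M) : f ⟨y, hyP⟩ = 1 := by
  classical
  set C := Subgroup.centralizer ({y} : Set H) with hC
  have hPC : P ≤ C := fun p hp => Subgroup.mem_centralizer_singleton_iff.2 (hcen p hp)
  let g : P.subgroupOf C →* M := f.comp (Subgroup.subgroupOfEquivOfLe hPC).toMonoidHom
  have hyC : y ∈ C := Subgroup.mem_centralizer_singleton_iff.2 rfl
  haveI : (P.subgroupOf C).FiniteIndex := inferInstance
  let V : C →* M := MonoidHom.transfer g
  have hker : Subgroup.closure {x | ∃ w, w * y = y * w ∧ x = w * w} ≤ V.ker.map C.subtype := by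
    rw [Subgroup.closure_le]
    rintro _ ⟨w, hw, rfl⟩
    have hwC : w ∈ C := Subgroup.mem_centralizer_singleton_iff.2 hw
    refine ⟨⟨w, hwC⟩ * ⟨w, hwC⟩, ?_, rfl⟩
    simp only [SetLike.mem_coe, MonoidHom.mem_ker, map_mul, hM]
  obtain ⟨x, hx, hxy⟩ := hker hsq
  have hxy' : x = ⟨y, hyC⟩ := Subtype.ext hxy
  subst hxy'
  have hcy : ∀ c : C, c * ⟨y, hyC⟩ = ⟨y, hyC⟩ * c := fun c =>
    Subtype.ext (Subgroup.mem_centralizer_singleton_iff.1 c.2)
  have key : ∀ (k : ℕ) (c : C), c⁻¹ * ⟨y, hyC⟩ ^ k * c ∈ P.subgroupOf C →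
      c⁻¹ * ⟨y, hyC⟩ ^ k * c = ⟨y, hyC⟩ ^ k := by
    intro k c _
    have h := (Commute.pow_right (hcy c) k).eq
    rw [mul_assoc, ← h, inv_mul_cancel_left]
  have hV : V ⟨y, hyC⟩ = f ⟨y, hyP⟩ ^ (P.subgroupOf C).index := by
    show MonoidHom.transfer g ⟨y, hyC⟩ = _
    rw [MonoidHom.transfer_eq_pow g ⟨y, hyC⟩ key, ← map_pow]
    exact congrArg f (Subtype.ext rfl)
  have hodd : Odd (P.subgroupOf C).index := hP.of_dvd_nat (Subgroup.relIndex_dvd_index_of_le hPC)
  obtain ⟨k, hk⟩ := hodd
  rw [SetLike.mem_coe, MonoidHom.mem_ker, hV, hk, pow_succ, pow_mul, pow_two, hM, one_pow, one_mul] at hx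
  exact hx

end CfsgLib.TwoTimesAlt
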