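import Mathlib

/-!
Extremal form of the Thompson transfer lemma: in a group with no normal subgroup of index two an
involution outside an index-two subgroup `T` of a Sylow 2-subgroup `S` is conjugate to an element
of `T` whose centraliser has a Sylow 2-subgroup inside `S`.
-/

set_option autoImplicit false

namespace CfsgLib.TwoTimesAlt

/-- Extremal transfer. -/
theorem exists_extremal_conj {G : Type*} [Group G] [Finite G]
    (h2 : ∀ N : Subgroup G, N.Normal → N.index ≠ 2) (S : Sylow 2 G) (T : Subgroup G)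
    (hTS : T ≤ S) (hT : T.relIndex (S : Subgroup G) = 2)
    (y : G) (hy : orderOf y = 2) (hyS : y ∈ S) (hyT : y ∉ T) :
    ∃ g : G, g * y * g⁻¹ ∈ T ∧
      ¬ 2 ∣ ((S : Subgroup G) ⊓ Subgroup.centralizer {g * y * g⁻¹}).relIndex
          (Subgroup.centralizer {g * y * g⁻¹}) ∧
      ((S : Subgroup G) ⊓ Subgroup.centralizer {y}).map (MulAut.conj g).toMonoidHom ≤
        (S : Subgroup G) ⊓ Subgroup.centralizer {g * y * g⁻¹} := by
  classical
  haveI hTn : (T.subgroupOf (S : Subgroup G)).Normal := Subgroup.normal_of_index_eq_two hT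
  have hcyc : IsCyclic (↥(S : Subgroup G) ⧸ T.subgroupOf (S : Subgroup G)) := by
    haveI : Fact (Nat.Prime 2) := ⟨Nat.prime_two⟩
    exact isCyclic_of_prime_card (p := 2) hT
  haveI : Fact (Nat.Prime 2) := ⟨Nat.prime_two⟩
  letI : CommGroup (↥(S : Subgroup G) ⧸ T.subgroupOf (S : Subgroup G)) :=
    { (inferInstance : Group (↥(S : Subgroup G) ⧸ T.subgroupOf (S : Subgroup G))) with
      mul_comm := fun a b => by
        haveI := hcyc
        exact IsCyclic.isMulCommutative.is_comm.comm a b }
  let φ : ↥(S : Subgroup G) →* ↥(S : Subgroup G) ⧸ T.subgroupOf (S : Subgroup G) :=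
    QuotientGroup.mk' _
  have hφ1 : ∀ z : ↥(S : Subgroup G), φ z = 1 ↔ (z : G) ∈ T := fun z => by
    rw [QuotientGroup.mk'_apply, QuotientGroup.eq_one_iff, Subgroup.mem_subgroupOf]
  set u := φ ⟨y, hyS⟩ with hu
  have hy2 : y ^ 2 = 1 := hy ▸ pow_orderOf_eq_one y
  have hu1 : u ≠ 1 := fun h => hyT ((hφ1 _).1 h)
  have hu2 : u ^ 2 = 1 := by
    rw [hu, ← map_pow, show (⟨y, hyS⟩ : ↥(S : Subgroup G)) ^ 2 = 1 from Subtype.ext hy2, map_one]
  have huniq : ∀ v : ↥(S : Subgroup G) ⧸ T.subgroupOf (S : Subgroup G), v ^ 2 = 1 → v ≠ 1 → v = u := by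
    intro v hv hv1
    haveI := hcyc
    letI : Fintype (↥(S : Subgroup G) ⧸ T.subgroupOf (S : Subgroup G)) := Fintype.ofFinite _
    by_contra hne
    have h3 : 3 ≤ (Finset.univ.filter fun a : ↥(S : Subgroup G) ⧸ T.subgroupOf (S : Subgroup G) => a ^ 2 = 1).card := by
      have h' : ({1, u, v} : Finset _).card = 3 := by
        rw [Finset.card_insert_of_notMem (by simp [hu1.symm, hv1.symm]),
          Finset.card_insert_of_notMem (by simp [Ne.symm hne]), Finset.card_singleton]
      refine h' ▸ Finset.card_le_card fun a ha => ?_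
      simp only [Finset.mem_insert, Finset.mem_singleton] at ha
      simp only [Finset.mem_filter, Finset.mem_univ, true_and]
      rcases ha with rfl | rfl | rfl
      · exact one_pow 2
      · exact hu2
      · exact hv
    have hle := IsCyclic.card_pow_eq_one_le (α := ↥(S : Subgroup G) ⧸ T.subgroupOf (S : Subgroup G))
      (n := 2) two_pos
    omega
  -- `g⁻¹ y g ∈ T` depends only on the coset `g S`
  have hP : ∀ g h : G, (g : G ⧸ (S : Subgroup G)) = h → g⁻¹ * y * g ∈ T → h⁻¹ * y * h ∈ T := by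
    intro g h hgh hg
    have hs : g⁻¹ * h ∈ (S : Subgroup G) := QuotientGroup.eq.1 hgh
    have := hTn.conj_mem ⟨g⁻¹ * y * g, hTS hg⟩ hg ⟨g⁻¹ * h, hs⟩⁻¹
    rw [Subgroup.mem_subgroupOf] at this
    simp only [Subgroup.coe_mul, Subgroup.coe_inv] at this
    convert this using 1
    group
  set FT := {c : G ⧸ (S : Subgroup G) // c.out⁻¹ * y * c.out ∈ T} with hFT
  have hfixT : ∀ c : G ⧸ (S : Subgroup G), c.out⁻¹ * y * c.out ∈ T → y • c = c := by
    intro c hc
    rw [← QuotientGroup.out_eq' c, MulAction.Quotient.smul_mk, QuotientGroup.eq]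
    simp only [smul_eq_mul, mul_inv_rev]
    have := inv_mem (hTS hc)
    simpa [mul_assoc] using this
  have hperm : IsPGroup 2 (Subgroup.zpowers y) :=
    IsPGroup.of_card (n := 1) (by rw [Nat.card_zpowers, hy, pow_one])
  have hFodd : ¬ 2 ∣ Nat.card FT := by
    have htr : MonoidHom.transfer φ y = 1 := by
      by_contra hy'
      refine h2 (MonoidHom.transfer φ).ker inferInstance ?_
      have hcq : Nat.card (↥(S : Subgroup G) ⧸ T.subgroupOf (S : Subgroup G)) = 2 := hT
      have hdvd := Subgroup.card_subgroup_dvd_card (MonoidHom.transfer φ).range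
      rw [hcq] at hdvd
      rw [Subgroup.index_ker]
      rcases (Nat.dvd_prime Nat.prime_two).1 hdvd with h | h
      · exact absurd (MonoidHom.mem_ker.1 (by
          rw [(MonoidHom.range_eq_bot_iff (f := MonoidHom.transfer φ)).1 (Subgroup.eq_bot_of_card_eq _ h),
            MonoidHom.ker_one]
          trivial)) hy'
      · exact h
    letI := (S : Subgroup G).fintypeQuotientOfFiniteIndex
    letI : Fintype (Quotient (MulAction.orbitRel (Subgroup.zpowers y) (G ⧸ (S : Subgroup G)))) :=
      Fintype.ofFinite _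
    rw [MonoidHom.transfer_eq_prod_quotient_orbitRel_zpowers_quot] at htr
    set f : Quotient (MulAction.orbitRel (Subgroup.zpowers y) (G ⧸ (S : Subgroup G))) → _ := fun q =>
      φ ⟨q.out.out⁻¹ * y ^ Function.minimalPeriod (y • ·) q.out * q.out.out,
        QuotientGroup.out_conj_pow_minimalPeriod_mem (S : Subgroup G) y q.out⟩ with hf
    have hper : ∀ c : G ⧸ (S : Subgroup G), Function.minimalPeriod (y • ·) c = 1 ∧ y • c = c ∨
        Function.minimalPeriod (y • ·) c = 2 ∧ y • c ≠ c := by
      intro c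
      have hdvd : Function.minimalPeriod (y • ·) c ∣ 2 := by
        refine Function.IsPeriodicPt.minimalPeriod_dvd ?_
        show (y • ·)^[2] c = c
        rw [smul_iterate]; simp [hy2]
      rcases (Nat.dvd_prime Nat.prime_two).1 hdvd with h | h
      · exact Or.inl ⟨h, Function.minimalPeriod_eq_one_iff_isFixedPt.1 h⟩
      · refine Or.inr ⟨h, fun hc => ?_⟩
        rw [Function.minimalPeriod_eq_one_iff_isFixedPt.2 hc] at h
        exact absurd h (by norm_num)
    have hfval : ∀ q, (f q ≠ 1 ↔ (y • q.out = q.out ∧ q.out.out⁻¹ * y * q.out.out ∉ T)) ∧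
        (f q ≠ 1 → f q = u) := by
      intro q
      rcases hper q.out with ⟨h1, h2⟩ | ⟨h1, h2⟩
      · have hiff : f q ≠ 1 ↔ q.out.out⁻¹ * y * q.out.out ∉ T := by
          rw [hf, Ne, hφ1]; simp [h1]
        refine ⟨hiff.trans (by simp [h2]), fun h => huniq _ ?_ h⟩
        rw [hf, ← map_pow]
        convert map_one φ using 2
        apply Subtype.ext
        simp only [SubmonoidClass.coe_pow, h1, pow_one, OneMemClass.coe_one]
        calc (q.out.out⁻¹ * y * q.out.out) ^ 2 = q.out.out⁻¹ * y ^ 2 * q.out.out := by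
              simp only [pow_two]; group
          _ = 1 := by rw [hy2]; group
      · have h0 : f q = 1 := by
          rw [hf, hφ1]; simp [h1, hy2]
        exact ⟨iff_of_false (fun h => h h0) (fun h => h2 h.1), fun h => absurd h0 h⟩
    have hprod : u ^ (Finset.univ.filter fun q => f q ≠ 1).card = 1 := by
      rw [← Finset.prod_const]
      refine Eq.trans ?_ htr
      refine Eq.trans ?_ (Finset.prod_filter_ne_one (s := Finset.univ) (f := f))
      exact Finset.prod_congr rfl fun q hq => ((hfval q).2 (Finset.mem_filter.1 hq).2).symm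
    have heven : 2 ∣ (Finset.univ.filter fun q => f q ≠ 1).card :=
      (orderOf_eq_prime hu2 hu1).symm.dvd.trans (orderOf_dvd_of_pow_eq_one hprod)
    set FN := {c : G ⧸ (S : Subgroup G) // y • c = c ∧ c.out⁻¹ * y * c.out ∉ T}
    have hbij : (Finset.univ.filter fun q => f q ≠ 1).card = Nat.card FN := by
      rw [← Nat.card_eq_finsetCard]
      refine Nat.card_congr (Equiv.ofBijective (fun q => ⟨q.1.out, (hfval q.1).1.1
        (Finset.mem_filter.1 q.2).2⟩) ⟨fun a b hab => ?_, fun c => ?_⟩)
      · exact Subtype.ext (Quotient.out_injective (congrArg Subtype.val hab))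
      · have hout : (Quotient.mk (MulAction.orbitRel (Subgroup.zpowers y) (G ⧸ (S : Subgroup G))) c.1).out = c.1 := by
          obtain ⟨⟨_, i, rfl⟩, hi⟩ := MulAction.orbitRel_apply.1 (Quotient.mk_out (s := MulAction.orbitRel (Subgroup.zpowers y) (G ⧸ (S : Subgroup G))) c.1)
          change (y ^ i) • c.1 = _ at hi
          rw [← hi]
          exact MulAction.mem_stabilizer_iff.1 (zpow_mem (MulAction.mem_stabilizer_iff.2 c.2.1) i)
        refine ⟨⟨_, Finset.mem_filter.2 ⟨Finset.mem_univ _, (hfval _).1.2 ?_⟩⟩, Subtype.ext hout⟩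
        exact hout.symm ▸ c.2
    have hmod := hperm.card_modEq_card_fixedPoints (G ⧸ (S : Subgroup G))
    have hfix : Nat.card (MulAction.fixedPoints (Subgroup.zpowers y) (G ⧸ (S : Subgroup G))) =
        Nat.card FT + Nat.card FN := by
      rw [← Nat.card_sum]
      refine (Nat.card_congr ?_).symm
      refine Equiv.ofBijective (Sum.elim (fun c => ⟨c.1, fun z => ?_⟩) (fun c => ⟨c.1, fun z => ?_⟩))
        ⟨?_, ?_⟩
      · obtain ⟨_, i, rfl⟩ := z
        exact MulAction.mem_stabilizer_iff.1 (zpow_mem (MulAction.mem_stabilizer_iff.2 (hfixT _ c.2)) i)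
      · obtain ⟨_, i, rfl⟩ := z
        exact MulAction.mem_stabilizer_iff.1 (zpow_mem (MulAction.mem_stabilizer_iff.2 c.2.1) i)
      · rintro (a | a) (b | b) hab
        · exact congrArg Sum.inl (Subtype.ext (congrArg Subtype.val hab :))
        · have : a.1 = b.1 := congrArg Subtype.val hab
          exact absurd (this ▸ a.2) b.2.2
        · have : a.1 = b.1 := congrArg Subtype.val hab
          exact absurd (this.symm ▸ b.2) a.2.2
        · exact congrArg Sum.inr (Subtype.ext (congrArg Subtype.val hab :))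
      · rintro ⟨c, hc⟩
        by_cases hcT : c.out⁻¹ * y * c.out ∈ T
        · exact ⟨Sum.inl ⟨c, hcT⟩, rfl⟩
        · exact ⟨Sum.inr ⟨c, hc ⟨y, Subgroup.mem_zpowers y⟩, hcT⟩, rfl⟩
    rw [hfix] at hmod
    intro hd
    have h2 : ¬ 2 ∣ (S : Subgroup G).index := S.not_dvd_index
    refine h2 ?_
    rw [hbij] at heven
    exact (Nat.modEq_zero_iff_dvd.1 (hmod.trans (Nat.modEq_zero_iff_dvd.2 (Nat.dvd_add hd heven))))
  -- a Sylow subgroup of `C(y)` containing `C_S(y)` fixes such a coset
  set C := Subgroup.centralizer ({y} : Set G) with hC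
  have hR : IsPGroup 2 (((S : Subgroup G) ⊓ C).subgroupOf C) :=
    (S.2.to_le inf_le_left).of_equiv (Subgroup.subgroupOfEquivOfLe inf_le_right).symm
  obtain ⟨Q, hQ⟩ := hR.exists_le_sylow
  have hinv : ∀ (q : C) (c : G ⧸ (S : Subgroup G)), c.out⁻¹ * y * c.out ∈ T →
      ((q : G) • c).out⁻¹ * y * ((q : G) • c).out ∈ T := by
    intro q c hc
    refine hP ((q : G) * c.out) _ ?_ ?_
    · rw [QuotientGroup.out_eq']
      conv_rhs => rw [← QuotientGroup.out_eq' c, MulAction.Quotient.smul_mk, smul_eq_mul]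
    · have hq : (q : G)⁻¹ * y * (q : G) = y := by
        have := Subgroup.mem_centralizer_singleton_iff.1 q.2
        calc (q : G)⁻¹ * y * (q : G) = (q : G)⁻¹ * ((q : G) * y) := by rw [this]; group
          _ = y := by group
      rw [show ((q : G) * c.out)⁻¹ * y * ((q : G) * c.out) =
        c.out⁻¹ * ((q : G)⁻¹ * y * (q : G)) * c.out by group, hq]
      exact hc
  letI : MulAction ↥(Q : Subgroup C) FT :=
    { smul := fun q c => ⟨((q : C) : G) • c.1, hinv q c.1 c.2⟩
      one_smul := fun c => Subtype.ext (one_smul G c.1)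
      mul_smul := fun a b c => Subtype.ext (mul_smul ((a : C) : G) ((b : C) : G) c.1) }
  obtain ⟨c, hc⟩ := Q.2.nonempty_fixed_point_of_prime_not_dvd_card FT hFodd
  have hfixc : ∀ q ∈ (Q : Subgroup C), c.1.out⁻¹ * (q : G) * c.1.out ∈ (S : Subgroup G) := by
    intro q hq
    have h1 : (q : G) • c.1 = c.1 := congrArg Subtype.val (hc ⟨q, hq⟩)
    rw [← QuotientGroup.out_eq' c.1, MulAction.Quotient.smul_mk, smul_eq_mul, QuotientGroup.eq] at h1
    have := inv_mem h1
    simpa [mul_assoc] using this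
  set g := c.1.out⁻¹ with hg
  have hgy : g * y * g⁻¹ = c.1.out⁻¹ * y * c.1.out := by rw [hg, inv_inv]
  refine ⟨g, by rw [hgy]; exact c.2, ?_, ?_⟩
  · set Q' := ((Q : Subgroup C).map C.subtype).map (MulAut.conj g).toMonoidHom
    have hQle : Q' ≤ (S : Subgroup G) ⊓ Subgroup.centralizer {g * y * g⁻¹} := by
      rintro _ ⟨_, ⟨q, hq, rfl⟩, rfl⟩
      refine ⟨by have h := hfixc q hq; simp [hg] at h ⊢; exact h, Subgroup.mem_centralizer_singleton_iff.2 ?_⟩
      have := Subgroup.mem_centralizer_singleton_iff.1 q.2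
      simp only [MulEquiv.toMonoidHom_eq_coe, MonoidHom.coe_coe, MulAut.conj_apply, Subgroup.coe_subtype]
      calc g * (q : G) * g⁻¹ * (g * y * g⁻¹) = g * ((q : G) * y) * g⁻¹ := by group
        _ = g * (y * (q : G)) * g⁻¹ := by rw [this]
        _ = g * y * g⁻¹ * (g * (q : G) * g⁻¹) := by group
    have hCmap : C.map (MulAut.conj g).toMonoidHom = Subgroup.centralizer {g * y * g⁻¹} := by
      ext z
      constructor
      · rintro ⟨w, hw, rfl⟩
        refine Subgroup.mem_centralizer_singleton_iff.2 ?_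
        have := Subgroup.mem_centralizer_singleton_iff.1 hw
        simp only [MulEquiv.toMonoidHom_eq_coe, MonoidHom.coe_coe, MulAut.conj_apply]
        calc g * w * g⁻¹ * (g * y * g⁻¹) = g * (w * y) * g⁻¹ := by group
          _ = g * (y * w) * g⁻¹ := by rw [this]
          _ = g * y * g⁻¹ * (g * w * g⁻¹) := by group
      · intro hz
        refine ⟨g⁻¹ * z * g, Subgroup.mem_centralizer_singleton_iff.2 ?_, by simp [mul_assoc]⟩
        have := Subgroup.mem_centralizer_singleton_iff.1 hz
        calc g⁻¹ * z * g * y = g⁻¹ * (z * (g * y * g⁻¹)) * g := by group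
          _ = g⁻¹ * ((g * y * g⁻¹) * z) * g := by rw [this]
          _ = y * (g⁻¹ * z * g) := by group
    intro hd
    have h1 : Q'.relIndex (Subgroup.centralizer {g * y * g⁻¹}) = (Q : Subgroup C).index := by
      rw [← hCmap, Subgroup.relIndex_map_map_of_injective _ _ (MulAut.conj g).injective,
        Subgroup.relIndex, Subgroup.subgroupOf, Subgroup.comap_map_eq_self_of_injective C.subtype_injective]
    exact Q.not_dvd_index (h1 ▸ hd.trans (Subgroup.relIndex_dvd_of_le_left _ hQle))
  · rintro _ ⟨z, ⟨hzS, hzC⟩, rfl⟩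
    refine ⟨by have h := hfixc ⟨z, hzC⟩ (hQ ⟨hzS, hzC⟩); simp [hg] at h ⊢; exact h, ?_⟩
    refine Subgroup.mem_centralizer_singleton_iff.2 ?_
    have := Subgroup.mem_centralizer_singleton_iff.1 hzC
    simp only [MulEquiv.toMonoidHom_eq_coe, MonoidHom.coe_coe, MulAut.conj_apply]
    calc g * z * g⁻¹ * (g * y * g⁻¹) = g * (z * y) * g⁻¹ := by group
      _ = g * (y * z) * g⁻¹ := by rw [this]
      _ = g * y * g⁻¹ * (g * z * g⁻¹) := by group

end CfsgLib.TwoTimesAlt
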