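import Cfsg.Agent.Lib.TwoTimesAlt.Simple

/-!
The normal subgroup generated by the involutions is perfect and transitive on them.
-/

set_option autoImplicit false
set_option linter.style.haveILetI false
set_option linter.unusedSectionVars false

open Cfsg

namespace CfsgLib.TwoTimesAlt.Hyp

variable {G : Type*} [Group G] [Finite G] (h : Hyp G)
include h

theorem commutator_eq_top (hns : ¬ Group.IsSolvable G) : commutator ↥h.N = ⊤ := by
  have hmap := Subgroup.map_subtype_commutator h.N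
  by_cases hb : ⁅h.N, h.N⁆ = ⊥
  · exfalso
    refine hns ?_
    have hcomm : ∀ a ∈ h.N, ∀ b ∈ h.N, a * b = b * a := fun a ha b hb' =>
      ((Subgroup.commutator_eq_bot_iff_le_centralizer.1 hb ha) b hb').symm
    have hle : h.N ≤ (h.S : Subgroup G) := fun x hx =>
      h.mem_S_of_comm_T (h.mem_C.2 (hcomm x hx _ (h.mem_N h.J_sq)))
        fun u _ hu => hcomm x hx u (h.mem_N hu)
    have heq : (h.S : Subgroup G) = h.N := le_antisymm h.S_le_N hle
    haveI : Fact (Nat.Prime 2) := ⟨Nat.prime_two⟩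
    have hodd : Odd (Nat.card (G ⧸ h.N)) := by
      rw [← Subgroup.index_eq_card, ← heq]
      exact Nat.odd_iff.2 (Nat.two_dvd_ne_zero.1 h.S.not_dvd_index)
    haveI := Cfsg.Agent.S0205.result hodd
    haveI : Group.IsSolvable ↥h.N :=
      Group.isSolvable_of_comm fun a b => Subtype.ext (hcomm _ a.2 _ b.2)
    exact Group.isSolvable_of_ker_le_range h.N.subtype (QuotientGroup.mk' h.N)
      (by rw [QuotientGroup.ker_mk', Subgroup.range_subtype])
  · have e : ⁅h.N, h.N⁆ = h.N := le_antisymm (Subgroup.commutator_le_left _ _) (h.N_le hb)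
    refine Subgroup.map_injective h.N.subtype_injective ?_
    rw [hmap, e, ← MonoidHom.range_eq_map, Subgroup.range_subtype]

theorem N_no_index_two (hns : ¬ Group.IsSolvable G) :
    ∀ M : Subgroup ↥h.N, M.Normal → M.index ≠ 2 := by
  intro M hM hi
  haveI : Fact (Nat.Prime 2) := ⟨Nat.prime_two⟩
  haveI : IsCyclic (↥h.N ⧸ M) := isCyclic_of_prime_card (p := 2) hi
  have hle : commutator ↥h.N ≤ M := by
    rw [← Subgroup.Normal.quotient_commutative_iff_commutator_le]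
    exact IsCyclic.isMulCommutative (α := ↥h.N ⧸ M)
  rw [h.commutator_eq_top hns, top_le_iff] at hle
  rw [hle, Subgroup.index_top] at hi
  omega

theorem card_centralizer {u : G} (hu : orderOf u = 2) :
    Nat.card (Subgroup.centralizer ({u} : Set G)) = 2 * Nat.card h.T := by
  obtain ⟨g, hg⟩ := isConj_iff.1 (h.isConj_J hu)
  have hmap : h.C.map (MulAut.conj g).toMonoidHom = Subgroup.centralizer ({u} : Set G) := by
    ext z
    constructor
    · rintro ⟨w, hw, rfl⟩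
      refine Subgroup.mem_centralizer_singleton_iff.2 ?_
      show g * w * g⁻¹ * u = u * (g * w * g⁻¹)
      rw [← hg, show g * w * g⁻¹ * (g * h.J * g⁻¹) = g * (w * h.J) * g⁻¹ by group, h.mem_C.1 hw]
      group
    · intro hz
      refine ⟨g⁻¹ * z * g, h.mem_C.2 ?_, by simp [mul_assoc]⟩
      have e := Subgroup.mem_centralizer_singleton_iff.1 hz
      calc g⁻¹ * z * g * h.J = g⁻¹ * (z * u) * g := by rw [← hg]; group
        _ = g⁻¹ * (u * z) * g := by rw [e]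
        _ = h.J * (g⁻¹ * z * g) := by rw [← hg]; group
  rw [← hmap, Subgroup.card_map_of_injective (MulAut.conj g).injective]
  have e := card_mul_relIndex h.T_le
  rw [h.relIndex_eq_two h.J_mem_C (inf_eq_right.2 h.T_le).symm le_rfl] at e
  omega

theorem exists_seven : ∃ d ∈ Subgroup.normalizer ((h.S : Subgroup G) : Set G), orderOf d = 7 := by
  classical
  haveI : Fact (Nat.Prime 2) := ⟨Nat.prime_two⟩
  haveI : Fact (Nat.Prime 7) := ⟨by norm_num⟩
  set NS := Subgroup.normalizer ((h.S : Subgroup G) : Set G)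
  letI : MulAction NS ↥(h.S : Subgroup G) :=
    MulAction.compHom _ (Subgroup.normalizerMonoidHom (h.S : Subgroup G))
  have hsmul : ∀ (n : NS) (s : ↥(h.S : Subgroup G)),
      ((n • s : ↥(h.S : Subgroup G)) : G) = (n : G) * s * (n : G)⁻¹ := fun n s => rfl
  have horb : MulAction.orbit NS (⟨h.J, h.hJS⟩ : ↥(h.S : Subgroup G)) = {(1 : ↥(h.S : Subgroup G))}ᶜ := by
    ext s
    rw [Set.mem_compl_singleton_iff]
    constructor
    · rintro ⟨n, rfl⟩ e
      have e' := congrArg Subtype.val e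
      rw [hsmul] at e'
      exact h.J_ne_one (by
        calc h.J = (n : G)⁻¹ * ((n : G) * h.J * (n : G)⁻¹) * n := by group
          _ = 1 := by rw [e']; simp)
    · intro hs
      have hs1 : (s : G) ≠ 1 := fun e => hs (Subtype.ext e)
      obtain ⟨g, hg⟩ := isConj_iff.1 (h.isConj_J (orderOf_two (h.S_sq s.2) hs1))
      have hg' : g⁻¹⁻¹ * h.J * g⁻¹ = s := by rw [inv_inv]; exact hg
      obtain ⟨n, hn, hns⟩ := Sylow.conj_eq_normalizer_conj_of_mem_centralizer h.S h.J g⁻¹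
        (Subgroup.mem_centralizer_iff.2 fun x hx => h.hS x hx)
        (Subgroup.mem_centralizer_iff.2 fun x hx => by rw [hg']; exact h.S_comm hx s.2)
      refine ⟨⟨n⁻¹, inv_mem hn⟩, Subtype.ext ?_⟩
      rw [hsmul, ← hg', hns]
      simp
  have h7 : 7 ∣ Nat.card NS := by
    have e := MulAction.index_stabilizer NS (⟨h.J, h.hJS⟩ : ↥(h.S : Subgroup G))
    rw [horb, Set.ncard_compl, Set.ncard_singleton, h.card_S] at e
    rw [show 7 = 8 - 1 from rfl, ← e]
    exact Subgroup.index_dvd_card _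
  obtain ⟨d, hd⟩ := exists_prime_orderOf_dvd_card' (G := NS) 7 h7
  exact ⟨d, d.2, by rw [Subgroup.orderOf_coe]; exact hd⟩

theorem exists_conj_in_N (hns : ¬ Group.IsSolvable G) {u : G} (hu : u ∈ h.S) (hu1 : u ≠ 1) :
    ∃ n ∈ h.N, n * h.J * n⁻¹ = u := by
  classical
  haveI : Fact (Nat.Prime 7) := ⟨by norm_num⟩
  obtain ⟨d, hdn, hd⟩ := h.exists_seven
  let f : ℕ → G := fun k => d ^ k * h.J * (d ^ k)⁻¹
  have hfS : ∀ k, f k ∈ h.S := fun k =>
    (Subgroup.mem_normalizer_iff.1 (pow_mem hdn k) h.J).1 h.hJS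
  have hf1 : ∀ k, f k ≠ 1 := fun k e => h.J_ne_one (by
    calc h.J = (d ^ k)⁻¹ * f k * d ^ k := by simp [f, mul_assoc]
      _ = 1 := by rw [e]; simp)
  have hfree : ∀ k, f k = h.J → k % 7 = 0 := by
    intro k e
    by_contra hk
    have hc : d ^ k ∈ h.C := h.mem_C.2 (mul_inv_eq_iff_eq_mul.1 e)
    have hcop : Nat.Coprime k (orderOf d) := by
      rw [hd, Nat.coprime_comm, Nat.Prime.coprime_iff_not_dvd (by norm_num)]
      omega
    have hpow : orderOf (d ^ k) = 7 := by rw [Nat.Coprime.orderOf_pow hcop.symm, hd]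
    have h7 : 7 ∣ Nat.card h.C := by
      rw [← hpow, ← Subgroup.orderOf_mk (d ^ k) hc]
      exact orderOf_dvd_natCard _
    rw [h.card_centralizer h.hJ, Nat.card_congr h.eT.toEquiv] at h7
    rcases h.facts.card with e | e <;> rw [e] at h7 <;> omega
  have hmod : ∀ a b : ℕ, a % 7 = b % 7 → f a = f b := fun a b e => by
    simp only [f]
    rw [← pow_mod_orderOf d a, ← pow_mod_orderOf d b, hd, e]
  have hinj : ∀ a b : Fin 7, f a = f b → a = b := by
    intro a b e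
    have e' : f ((a : ℕ) + (7 - (b : ℕ))) = f ((b : ℕ) + (7 - (b : ℕ))) := by
      have hshift : ∀ i, f (i + (7 - (b : ℕ))) =
          d ^ (7 - (b : ℕ)) * f i * (d ^ (7 - (b : ℕ)))⁻¹ := fun i => by
        simp only [f]
        rw [add_comm, pow_add]
        group
      rw [hshift, hshift, e]
    rw [show (b : ℕ) + (7 - (b : ℕ)) = 7 by omega, hmod 7 0 rfl,
      show f 0 = h.J by simp [f]] at e'
    have := hfree _ e'
    exact Fin.ext (by omega)
  have hsurj : ∀ s ∈ h.S, s ≠ 1 → ∃ k : Fin 7, f k = s := by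
    intro s hs hs1
    let F : Fin 7 → {x : ↥(h.S : Subgroup G) // x ≠ 1} := fun k =>
      ⟨⟨f k, hfS k⟩, fun e => hf1 k (congrArg Subtype.val e)⟩
    have hF : Function.Injective F := fun a b e =>
      hinj a b (congrArg (fun x => ((x.1 : ↥(h.S : Subgroup G)) : G)) e)
    have hcard : Nat.card {x : ↥(h.S : Subgroup G) // x ≠ 1} = 7 := by
      rw [show Nat.card {x : ↥(h.S : Subgroup G) // x ≠ 1} =
        ({1}ᶜ : Set ↥(h.S : Subgroup G)).ncard from Nat.card_coe_set_eq _,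
        Set.ncard_compl, Set.ncard_singleton, h.card_S]
    obtain ⟨k, hk⟩ := ((Nat.bijective_iff_injective_and_card F).2
      ⟨hF, by rw [hcard, Nat.card_fin]⟩).2 ⟨⟨s, hs⟩, fun e => hs1 (congrArg Subtype.val e)⟩
    exact ⟨k, congrArg (fun x => ((x.1 : ↥(h.S : Subgroup G)) : G)) hk⟩
  -- one step inside `N`
  have hJN : h.J ∈ h.N := h.mem_N h.J_sq
  obtain ⟨n₀, hn₀, -, -⟩ := exists_extremal_conj (h.N_no_index_two hns) (h.S.subtype h.S_le_N)
    (h.V.subgroupOf h.N) (fun x hx => h.V_le_S hx)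
    ((Subgroup.relIndex_subgroupOf h.S_le_N).trans h.relIndex_V)
    ⟨h.J, hJN⟩ (by rw [Subgroup.orderOf_mk]; exact h.hJ) h.hJS
    (fun e => h.not_index_two_mem e)
  have hn₀' : (n₀ : G) * h.J * (n₀ : G)⁻¹ ∈ h.V := hn₀
  have hw1 : (n₀ : G) * h.J * (n₀ : G)⁻¹ ≠ 1 := fun e => h.J_ne_one (by
    calc h.J = (n₀ : G)⁻¹ * ((n₀ : G) * h.J * (n₀ : G)⁻¹) * n₀ := by group
      _ = 1 := by rw [e]; simp)
  obtain ⟨l, hl⟩ := hsurj _ (h.V_le_S hn₀') hw1
  have hl0 : (l : ℕ) ≠ 0 := fun e => by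
    rw [e, show f 0 = h.J by simp [f]] at hl
    exact h.not_index_two_mem (hl ▸ hn₀')
  have hR : ∀ j : ℕ, ∃ n ∈ h.N, n * h.J * n⁻¹ = f (j * l) := by
    intro j
    induction j with
    | zero => exact ⟨1, one_mem _, by simp [f]⟩
    | succ j ih =>
      obtain ⟨n, hn, hnf⟩ := ih
      refine ⟨d ^ (l : ℕ) * n * (d ^ (l : ℕ))⁻¹ * n₀, mul_mem
        ((inferInstance : h.N.Normal).conj_mem n hn _) n₀.2, ?_⟩
      calc d ^ (l : ℕ) * n * (d ^ (l : ℕ))⁻¹ * (n₀ : G) * h.J *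
            (d ^ (l : ℕ) * n * (d ^ (l : ℕ))⁻¹ * (n₀ : G))⁻¹
          = d ^ (l : ℕ) * n * (d ^ (l : ℕ))⁻¹ * ((n₀ : G) * h.J * (n₀ : G)⁻¹) *
            d ^ (l : ℕ) * n⁻¹ * (d ^ (l : ℕ))⁻¹ := by group
        _ = d ^ (l : ℕ) * (n * h.J * n⁻¹) * (d ^ (l : ℕ))⁻¹ := by rw [← hl]; simp only [f]; group
        _ = f ((j + 1) * l) := by
          rw [hnf]; simp only [f]
          rw [show (j + 1) * (l : ℕ) = (l : ℕ) + j * l by ring, pow_add]
          group
  obtain ⟨k, hk⟩ := hsurj u hu hu1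
  obtain ⟨j, hj⟩ : ∃ j : ℕ, (j * (l : ℕ)) % 7 = (k : ℕ) % 7 := by
    have key : ∀ a b : Fin 7, (a : ℕ) ≠ 0 → ∃ j : Fin 7, ((j : ℕ) * (a : ℕ)) % 7 = (b : ℕ) % 7 := by
      decide
    obtain ⟨j, hj⟩ := key l k hl0
    exact ⟨j, hj⟩
  obtain ⟨n, hn, hnf⟩ := hR j
  exact ⟨n, hn, hnf.trans ((hmod _ _ hj).trans hk)⟩

theorem exists_N_conj (hns : ¬ Group.IsSolvable G) {x : G} (hx : orderOf x = 2) :
    ∃ n ∈ h.N, n * h.J * n⁻¹ = x := by
  haveI : Fact (Nat.Prime 2) := ⟨Nat.prime_two⟩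
  have hxx := sq_of_orderOf hx
  have hxN : x ∈ h.N := h.mem_N hxx
  have hz : IsPGroup 2 (Subgroup.zpowers (⟨x, hxN⟩ : ↥h.N)) := by
    refine IsPGroup.of_card (n := 1) ?_
    rw [Nat.card_zpowers, Subgroup.orderOf_mk, hx, pow_one]
  obtain ⟨P, hP⟩ := hz.exists_le_sylow
  obtain ⟨k, hk⟩ := MulAction.exists_smul_eq (↥h.N) P (h.S.subtype h.S_le_N)
  have hmem : k * ⟨x, hxN⟩ * k⁻¹ ∈ ((h.S.subtype h.S_le_N : Sylow 2 ↥h.N) : Subgroup ↥h.N) := by
    rw [← hk, Sylow.coe_subgroup_smul]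
    exact ⟨_, hP (Subgroup.mem_zpowers _), rfl⟩
  have hmemS : (k : G) * x * (k : G)⁻¹ ∈ h.S := hmem
  obtain ⟨n, hn, hnx⟩ := h.exists_conj_in_N hns hmemS (fun e => by
    rw [mul_inv_eq_one, mul_eq_left] at e
    simp [e] at hx)
  refine ⟨(k : G)⁻¹ * n, mul_mem (inv_mem k.2) hn, ?_⟩
  calc (k : G)⁻¹ * n * h.J * ((k : G)⁻¹ * n)⁻¹ = (k : G)⁻¹ * (n * h.J * n⁻¹) * k := by group
    _ = x := by rw [hnx]; group

theorem sup_C_eq_top (hns : ¬ Group.IsSolvable G) : h.N ⊔ h.C = ⊤ := by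
  refine (Subgroup.eq_top_iff' _).2 fun g => ?_
  obtain ⟨n, hn, hnJ⟩ := h.exists_N_conj hns (x := g * h.J * g⁻¹) (by
    rw [← h.hJ]; exact orderOf_injective (MulAut.conj g).toMonoidHom (MulAut.conj g).injective h.J)
  rw [show g = n * (n⁻¹ * g) by group]
  refine Subgroup.mul_mem_sup hn (h.mem_C.2 ?_)
  calc n⁻¹ * g * h.J = n⁻¹ * (g * h.J * g⁻¹) * g := by group
    _ = h.J * (n⁻¹ * g) := by rw [← hnJ]; group

end CfsgLib.TwoTimesAlt.Hyp
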