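import Cfsg.Agent.Lib.TwoTimesAlt.Fusion
import Cfsg.Agent.Lib.ClassicalLinear.Card
import Cfsg.Agent.S1644
import Cfsg.Agent.S1230
import Cfsg.Agent.S3189
import Cfsg.Agent.S0813

/-!
The two possibilities: `PΓL(2,8)` and the first Janko group.
-/

set_option autoImplicit false
set_option linter.style.haveILetI false
set_option linter.unusedSectionVars false

open Cfsg

namespace CfsgLib.TwoTimesAlt.Hyp

variable {G : Type*} [Group G] [Finite G] (h : Hyp G)
include h

/-- The homomorphism from a group of order two onto `⟨J⟩`. -/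
noncomputable def jHom : Multiplicative (ZMod 2) →* G where
  toFun s := if s = 1 then 1 else h.J
  map_one' := if_pos rfl
  map_mul' := by
    have key : ∀ a : Multiplicative (ZMod 2), a = 1 ∨ a = Multiplicative.ofAdd 1 := by decide
    intro a b
    rcases key a with rfl | rfl <;> rcases key b with rfl | rfl <;>
      simp [two_ne, two_sq, h.J_sq]

theorem jHom_mem (s : Multiplicative (ZMod 2)) : h.jHom s = 1 ∨ h.jHom s = h.J := by
  show (if s = 1 then (1 : G) else h.J) = 1 ∨ (if s = 1 then (1 : G) else h.J) = h.J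
  by_cases hs : s = 1 <;> simp [hs]

/-- The centraliser as a product. -/
theorem centralizer_equiv : Nonempty (↥h.C ≃* Multiplicative (ZMod 2) × ↥(alternatingGroup (Fin h.m))) := by
  have hc : ∀ (s : Multiplicative (ZMod 2)) (t : ↥h.T), Commute (h.jHom s) (t : G) := fun s t => by
    rcases h.jHom_mem s with e | e <;> rw [e]
    · exact Commute.one_left _
    · exact h.T_comm t.2
  let φ : Multiplicative (ZMod 2) × ↥h.T →* G := MonoidHom.noncommCoprod h.jHom h.T.subtype hc
  have hmem : ∀ p, φ p ∈ h.C := fun p => by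
    refine mul_mem ?_ (h.T_le p.2.2)
    rcases h.jHom_mem p.1 with e | e <;> rw [e]
    exacts [one_mem _, h.J_mem_C]
  refine ⟨(MulEquiv.ofBijective (φ.codRestrict h.C hmem) ⟨?_, ?_⟩).symm.trans
    ((MulEquiv.refl _).prodCongr h.eT)⟩
  · rw [injective_iff_map_eq_one]
    rintro ⟨s, t⟩ e
    have e' : h.jHom s * (t : G) = 1 := congrArg Subtype.val e
    have hs : s = 1 := by
      by_contra hs
      rw [show h.jHom s = h.J from if_neg hs] at e'
      exact h.J_notMem_T (eq_inv_of_mul_eq_one_left e' ▸ inv_mem t.2)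
    subst hs
    rw [map_one, one_mul] at e'
    exact Prod.ext rfl (Subtype.ext e')
  · rintro ⟨x, hx⟩
    rcases h.cases_of_mem hx with hT | hT
    · exact ⟨(1, ⟨x, hT⟩), Subtype.ext (show h.jHom 1 * x = x by rw [map_one, one_mul])⟩
    · exact ⟨(Multiplicative.ofAdd (1 : ZMod 2), ⟨h.J * x, hT⟩), Subtype.ext
        (show h.jHom (Multiplicative.ofAdd (1 : ZMod 2)) * (h.J * x) = x by
          rw [show h.jHom (Multiplicative.ofAdd (1 : ZMod 2)) = h.J from
            (if_neg two_ne : (if Multiplicative.ofAdd (1 : ZMod 2) = 1 then (1 : G) else h.J) = h.J), ← mul_assoc,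
            h.J_sq, one_mul])⟩

theorem isSimpleGroup (hN : h.N = ⊤) : IsSimpleGroup G := by
  haveI : Nontrivial G := ⟨⟨h.J, 1, h.J_ne_one⟩⟩
  exact ⟨fun K hK => or_iff_not_imp_left.2 fun hb => top_le_iff.1 (hN ▸ (haveI := hK; h.N_le hb))⟩

theorem isMulCommutative_S : IsMulCommutative ↥(h.S : Subgroup G) :=
  ⟨⟨fun a b => Subtype.ext (h.S_comm a.2 b.2)⟩⟩

theorem five (hns : ¬ Group.IsSolvable G) (hm : h.m = 5) : Cfsg.Spor.IsoJ1 G := by
  have hT : h.T ≤ h.N := fun x hx => by
    have five : ∀ a : ↥(alternatingGroup (Fin h.m)), ∃ b c, b * b = 1 ∧ c * c = 1 ∧ a = b * c := by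
      rw [hm]; exact five_gen
    obtain ⟨b, c, hb, hc, e⟩ := five (h.eT ⟨x, hx⟩)
    have hx' : (⟨x, hx⟩ : ↥h.T) = h.eT.symm b * h.eT.symm c := by
      rw [← map_mul, ← e, MulEquiv.symm_apply_apply]
    have mem : ∀ b : ↥(alternatingGroup (Fin h.m)), b * b = 1 → ((h.eT.symm b : ↥h.T) : G) ∈ h.N :=
      fun b hb => h.mem_N (congrArg Subtype.val
        (show h.eT.symm b * h.eT.symm b = 1 by rw [← map_mul, hb, map_one]))
    rw [show x = ((h.eT.symm b : ↥h.T) : G) * h.eT.symm c from congrArg Subtype.val hx']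
    exact mul_mem (mem b hb) (mem c hc)
  have hC : h.C ≤ h.N := fun x hx => by
    rcases h.cases_of_mem hx with hxT | hxT
    · exact hT hxT
    · rw [show x = h.J * (h.J * x) by rw [← mul_assoc, h.J_sq, one_mul]]
      exact mul_mem (h.mem_N h.J_sq) (hT hxT)
  have hN : h.N = ⊤ := by rw [← h.sup_C_eq_top hns, sup_eq_left.2 hC]
  haveI := h.isSimpleGroup hN
  obtain ⟨e⟩ := h.centralizer_equiv
  refine Cfsg.Agent.S1644.result h.S h.isMulCommutative_S h.card_S h.J h.hJ ?_
  exact e.trans ((MulEquiv.refl _).prodCongr (hm ▸ MulEquiv.refl (↥(alternatingGroup (Fin h.m)))))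

theorem four (hns : ¬ Group.IsSolvable G) (hm : h.m = 4) :
    ∃ (F : Type) (_ : Field F) (_ : Fintype F), Fintype.card F = 8 ∧
      Nonempty (G ≃* MulAut (Matrix.ProjectiveSpecialLinearGroup (Fin 2) F)) := by
  classical
  haveI : Fact (Nat.Prime 2) := ⟨Nat.prime_two⟩
  have hA : Nonempty (↥h.T ≃* ↥(alternatingGroup (Fin 4))) := by rw [← hm]; exact ⟨h.eT⟩
  obtain ⟨eT⟩ := hA
  have hnT : ∀ {x : G} (hx : x ∈ h.T), x * x = 1 ↔ eT ⟨x, hx⟩ * eT ⟨x, hx⟩ = 1 := by
    intro x hx
    rw [← map_mul, MulEquiv.map_eq_one_iff]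
    exact ⟨fun e => Subtype.ext e, fun e => congrArg Subtype.val e⟩
  have hV : ∀ x ∈ h.T, x * x = 1 → x ∈ h.S := fun x hx hx2 =>
    h.mem_S_of_comm_T (h.T_le hx) fun u hu hu2 => by
      have := congrArg eT.symm (four_sq_mul _ _ ((hnT hx).1 hx2) ((hnT hu).1 hu2))
      rw [map_mul, map_mul, MulEquiv.symm_apply_apply, MulEquiv.symm_apply_apply] at this
      exact congrArg Subtype.val this
  have hCN : h.C ⊓ h.N ≤ (h.S : Subgroup G) ∨ h.C ≤ h.N := by
    by_cases hall : ∀ x ∈ h.T, x ∈ h.N → x * x = 1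
    · refine Or.inl fun x ⟨hxC, hxN⟩ => ?_
      rcases h.cases_of_mem hxC with hT | hT
      · exact hV x hT (hall x hT hxN)
      · rw [show x = h.J * (h.J * x) by rw [← mul_assoc, h.J_sq, one_mul]]
        exact mul_mem h.hJS (hV _ hT (hall _ hT (mul_mem (h.mem_N h.J_sq) hxN)))
    · push Not at hall
      obtain ⟨a, haT, haN, ha2⟩ := hall
      have hT : h.T ≤ h.N := fun x hx => by
        obtain ⟨v, hv, hb⟩ := four_gen (eT ⟨a, haT⟩) (fun e => ha2 ((hnT haT).2 e)) (eT ⟨x, hx⟩)
        have hvN : ((eT.symm v : ↥h.T) : G) ∈ h.N := h.mem_N (congrArg Subtype.val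
          (show eT.symm v * eT.symm v = 1 by rw [← map_mul, hv, map_one]))
        have key : x = ((eT.symm v : ↥h.T) : G) ∨ x = ((eT.symm v : ↥h.T) : G) * a ∨
            x = ((eT.symm v : ↥h.T) : G) * a * a := by
          rcases hb with e | e | e
          · exact Or.inl (congrArg Subtype.val
              (show (⟨x, hx⟩ : ↥h.T) = eT.symm v by rw [← e, MulEquiv.symm_apply_apply]))
          · exact Or.inr (Or.inl (congrArg Subtype.val
              (show (⟨x, hx⟩ : ↥h.T) = eT.symm v * ⟨a, haT⟩ from eT.injective (by simp [e]))))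
          · exact Or.inr (Or.inr (congrArg Subtype.val
              (show (⟨x, hx⟩ : ↥h.T) = eT.symm v * ⟨a, haT⟩ * ⟨a, haT⟩ from
                eT.injective (by simp [e]))))
        rcases key with e | e | e <;> rw [e]
        exacts [hvN, mul_mem hvN haN, mul_mem (mul_mem hvN haN) haN]
      refine Or.inr fun x hxC => ?_
      rcases h.cases_of_mem hxC with hxT | hxT
      · exact hT hxT
      · rw [show x = h.J * (h.J * x) by rw [← mul_assoc, h.J_sq, one_mul]]
        exact mul_mem (h.mem_N h.J_sq) (hT hxT)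
  rcases hCN with hCN | hCN
  swap
  · -- a simple group has no such centraliser
    exfalso
    have hN : h.N = ⊤ := by rw [← h.sup_C_eq_top hns, sup_eq_left.2 hCN]
    haveI := h.isSimpleGroup hN
    haveI := four_solvable
    obtain ⟨e⟩ := h.centralizer_equiv
    have hsolvC : Group.IsSolvable ↥h.C := by
      haveI : Group.IsSolvable (↥(alternatingGroup (Fin h.m))) := by rw [hm]; exact four_solvable
      exact Group.isSolvable_of_isSolvable_injective (f := e.toMonoidHom) e.injective
    have hs : ∀ t : G, orderOf t = 2 → Group.IsSolvable ↥(Subgroup.centralizer ({t} : Set G)) := by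
      intro t ht
      obtain ⟨g, hg⟩ := isConj_iff.1 (h.isConj_J ht)
      subst hg
      let ψ : ↥(Subgroup.centralizer ({g * h.J * g⁻¹} : Set G)) →* ↥h.C :=
        ((MulAut.conj g⁻¹).toMonoidHom.comp (Subgroup.subtype _)).codRestrict h.C fun z => by
          refine h.mem_C.2 ?_
          have e := Subgroup.mem_centralizer_singleton_iff.1 z.2
          simp only [MonoidHom.comp_apply, Subgroup.coe_subtype, MulEquiv.toMonoidHom_eq_coe,
            MonoidHom.coe_coe, MulAut.conj_apply, inv_inv]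
          calc g⁻¹ * (z : G) * g * h.J = g⁻¹ * ((z : G) * (g * h.J * g⁻¹)) * g := by group
            _ = g⁻¹ * ((g * h.J * g⁻¹) * (z : G)) * g := by rw [e]
            _ = h.J * (g⁻¹ * (z : G) * g) := by group
      exact Group.isSolvable_of_isSolvable_injective (f := ψ) fun a b e => Subtype.ext
        ((MulAut.conj g⁻¹).injective (congrArg Subtype.val e))
    have h7 := Cfsg.Agent.S3189.result (fun hc => hns (Group.isSolvable_of_comm fun a b => hc.is_comm.comm a b))
      h.S ⟨h.isMulCommutative_S, fun x hx => by rw [pow_two]; exact h.S_sq hx⟩ h.card_S hs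
    set NS := Subgroup.normalizer ((h.S : Subgroup G) : Set G)
    set CS := Subgroup.centralizer ((h.S : Subgroup G) : Set G)
    obtain ⟨a, ha2, ha3⟩ := four_three
    set c : G := ((eT.symm a : ↥h.T) : G)
    have hcT : c ∈ h.T := (eT.symm a).2
    have hc3 : c ^ 3 = 1 :=
      congrArg Subtype.val (show eT.symm a ^ 3 = 1 by rw [← map_pow, ha3, map_one])
    have hc2 : c * c ≠ 1 := fun e => ha2 (by
      have := (hnT hcT).1 e
      rwa [show (⟨c, hcT⟩ : ↥h.T) = eT.symm a from rfl, MulEquiv.apply_symm_apply] at this)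
    have hconj : ∀ g ∈ h.T, ∀ s ∈ h.S, g * s * g⁻¹ ∈ h.S := fun g hg s hs' => by
      rcases h.cases_of_mem (h.S_le hs') with hsT | hsT
      · refine hV _ (mul_mem (mul_mem hg hsT) (inv_mem hg)) ?_
        rw [show g * s * g⁻¹ * (g * s * g⁻¹) = g * (s * s) * g⁻¹ by group, h.S_sq hs']
        group
      · have e := hV _ (mul_mem (mul_mem hg hsT) (inv_mem hg)) (by
          rw [show g * (h.J * s) * g⁻¹ * (g * (h.J * s) * g⁻¹) = g * ((h.J * s) * (h.J * s)) * g⁻¹ by group,
            h.S_sq (mul_mem h.hJS hs')]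
          group)
        have := mul_mem h.hJS e
        rwa [show h.J * (g * (h.J * s) * g⁻¹) = g * s * g⁻¹ by
          calc h.J * (g * (h.J * s) * g⁻¹) = h.J * g * h.J * (s * g⁻¹) := by group
            _ = g * (h.J * h.J) * (s * g⁻¹) := by rw [h.T_comm hg]; group
            _ = g * s * g⁻¹ := by rw [h.J_sq]; group] at this
    have hcN : c ∈ NS := Subgroup.mem_normalizer_iff.2 fun s => ⟨hconj c hcT s, fun hs' => by
      have := hconj c⁻¹ (inv_mem hcT) _ hs'
      rwa [show c⁻¹ * (c * s * c⁻¹) * c⁻¹⁻¹ = s by group] at this⟩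
    haveI : (CS.subgroupOf NS).Normal := by
      rw [← Subgroup.normalizerMonoidHom_ker]; infer_instance
    have h7' := Subgroup.pow_index_mem (CS.subgroupOf NS) ⟨c, hcN⟩
    rw [show (CS.subgroupOf NS).index = 7 from h7, Subgroup.mem_subgroupOf] at h7'
    have hc7 : c ∈ CS := by
      have e : ((⟨c, hcN⟩ : ↥NS) ^ 7 : ↥NS) = (⟨c, hcN⟩ : ↥NS) := Subtype.ext (by
        show c ^ 7 = c
        rw [show (7 : ℕ) = 3 + 3 + 1 from rfl, pow_add, pow_add, hc3, one_mul, one_mul, pow_one])
      rwa [e] at h7'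
    refine hc2 (h.S_sq (h.mem_S_of_comm_T (h.T_le hcT) fun u hu hu2 => ?_))
    exact ((Subgroup.mem_centralizer_iff.1 hc7) u (hV u hu hu2)).symm
  · -- `C_N(J) = S`, so `N` is `PSL(2,8)`
    have hSCN : h.C ⊓ h.N = (h.S : Subgroup G) := le_antisymm hCN (le_inf h.S_le h.S_le_N)
    set T₁ : Sylow 2 ↥h.N := h.S.subtype h.S_le_N
    have hcard : Nat.card ↥(T₁ : Subgroup ↥h.N) = 8 := by
      show Nat.card ↥((h.S : Subgroup G).subgroupOf h.N) = 8
      rw [Nat.card_congr (Subgroup.subgroupOfEquivOfLe h.S_le_N).toEquiv, h.card_S]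
    have hnc : ¬ IsCyclic (T₁ : Subgroup ↥h.N) := by
      intro hcyc
      obtain ⟨g, hg⟩ := hcyc.exists_generator
      have : orderOf g = 8 := by rw [orderOf_eq_card_of_forall_mem_zpowers hg, hcard]
      have h2 : g ^ 2 = 1 := Subtype.ext (Subtype.ext (by
        rw [pow_two]; exact h.S_sq (Subgroup.mem_subgroupOf.1 g.2)))
      exact absurd (this ▸ orderOf_dvd_of_pow_eq_one h2) (by decide)
    have hperf := h.commutator_eq_top hns
    have hntriv : Nontrivial ↥h.N :=
      ⟨⟨⟨h.J, h.mem_N h.J_sq⟩, 1, fun e => h.J_ne_one (congrArg Subtype.val e)⟩⟩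
    have hnsN : ¬ Group.IsSolvable ↥h.N := fun hs =>
      haveI := hs
      (Group.IsSolvable.commutator_lt_top_of_nontrivial (G := ↥h.N)).ne hperf
    have hnn : ¬ (T₁ : Subgroup ↥h.N).Normal := by
      intro hn
      refine hnsN ?_
      haveI := hn
      have hodd : Odd (Nat.card (↥h.N ⧸ (T₁ : Subgroup ↥h.N))) := by
        rw [← Subgroup.index_eq_card]
        exact Nat.odd_iff.2 (Nat.two_dvd_ne_zero.1 T₁.not_dvd_index)
      haveI := Cfsg.Agent.S0205.result hodd
      haveI : Group.IsSolvable ↥(T₁ : Subgroup ↥h.N) :=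
        Group.isSolvable_of_comm fun a b => Subtype.ext (Subtype.ext
          (h.S_comm (Subgroup.mem_subgroupOf.1 a.2) (Subgroup.mem_subgroupOf.1 b.2)))
      exact Group.isSolvable_of_ker_le_range (T₁ : Subgroup ↥h.N).subtype
        (QuotientGroup.mk' (T₁ : Subgroup ↥h.N))
        (by rw [QuotientGroup.ker_mk', Subgroup.range_subtype])
    have hCel : ∀ t : ↥h.N, orderOf t = 2 →
        IsMulCommutative (Subgroup.centralizer ({t} : Set ↥h.N)) ∧
          ∀ c ∈ Subgroup.centralizer ({t} : Set ↥h.N), c ^ 2 = 1 := by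
      intro t ht
      obtain ⟨n, hn, hnt⟩ := h.exists_N_conj hns (x := (t : G)) (by rw [Subgroup.orderOf_coe]; exact ht)
      have hmem : ∀ c ∈ Subgroup.centralizer ({t} : Set ↥h.N), n⁻¹ * (c : G) * n ∈ h.S := by
        intro c hc
        have e : (c : G) * (t : G) = (t : G) * c :=
          congrArg Subtype.val (Subgroup.mem_centralizer_singleton_iff.1 hc)
        refine hCN (Subgroup.mem_inf.2 ⟨h.mem_C.2 ?_, mul_mem (mul_mem (inv_mem hn) c.2) hn⟩)
        calc n⁻¹ * (c : G) * n * h.J = n⁻¹ * ((c : G) * (t : G)) * n := by rw [← hnt]; group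
          _ = n⁻¹ * ((t : G) * c) * n := by rw [e]
          _ = h.J * (n⁻¹ * (c : G) * n) := by rw [← hnt]; group
      refine ⟨⟨⟨fun a b => Subtype.ext (Subtype.ext ?_)⟩⟩, fun c hc => Subtype.ext ?_⟩
      · show ((a : ↥h.N) : G) * (b : ↥h.N) = ((b : ↥h.N) : G) * (a : ↥h.N)
        have e := h.S_comm (hmem _ a.2) (hmem _ b.2)
        calc ((a : ↥h.N) : G) * (b : ↥h.N)
            = n * ((n⁻¹ * ((a : ↥h.N) : G) * n) * (n⁻¹ * ((b : ↥h.N) : G) * n)) * n⁻¹ := by group
          _ = ((b : ↥h.N) : G) * (a : ↥h.N) := by rw [e]; group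
      · show (c : G) ^ 2 = 1
        calc (c : G) ^ 2 = n * ((n⁻¹ * (c : G) * n) * (n⁻¹ * (c : G) * n)) * n⁻¹ := by rw [pow_two]; group
          _ = 1 := by rw [h.S_sq (hmem c hc)]; group
    obtain ⟨F, iF, iFF, hF, ⟨e⟩⟩ := Cfsg.Agent.S1230.result T₁ hnc hnn hCel
    rw [hcard] at hF
    refine ⟨F, iF, iFF, hF, ?_⟩
    have hP : Nat.card (Matrix.ProjectiveSpecialLinearGroup (Fin 2) F) = 504 := by
      rw [CfsgLib.ClassicalLinear.card_PSL_two_of_even hF (by decide)]
      norm_num
    have hNcard : Nat.card ↥h.N = 504 := (Nat.card_congr e.toEquiv).trans hP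
    have hidx : h.N.index = 3 := by
      have e1 : h.N.relIndex (h.C ⊔ h.N) = h.N.relIndex h.C := Subgroup.relIndex_sup_right h.C h.N
      rw [sup_comm, h.sup_C_eq_top hns, Subgroup.relIndex_top_right] at e1
      have e2 := card_mul_relIndex (inf_le_left : h.C ⊓ h.N ≤ h.C)
      have e3 : (h.C ⊓ h.N).relIndex h.C = h.N.relIndex h.C := by
        rw [inf_comm, Subgroup.inf_relIndex_right]
      rw [e3, ← e1, hSCN, h.card_S, h.card_centralizer h.hJ, Nat.card_congr eT.toEquiv] at e2
      rw [show Nat.card ↥(alternatingGroup (Fin 4)) = 12 by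
        rw [Nat.card_eq_fintype_card]; decide +kernel] at e2
      omega
    have hG : Nat.card G = 1512 := by
      rw [← Subgroup.card_mul_index h.N, hNcard, hidx]
    haveI : Fact (Nat.Prime 2) := ⟨Nat.prime_two⟩
    have hAut : Nat.card (MulAut (Matrix.ProjectiveSpecialLinearGroup (Fin 2) F)) = 1512 := by
      rw [Cfsg.Agent.S0813.result 2 3 (by norm_num) (by rw [hF]; norm_num) 2 le_rfl (by norm_num),
        CfsgLib.ClassicalLinear.card_PGL, CfsgLib.ClassicalLinear.card_SL_two hF]
      norm_num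
    let ι : G →* MulAut (Matrix.ProjectiveSpecialLinearGroup (Fin 2) F) :=
      { toFun := fun g => (e.symm.trans (MulAut.conjNormal (H := h.N) g)).trans e
        map_one' := by ext x; simp
        map_mul' := fun a b => by ext x; simp }
    have hinj : Function.Injective ι := by
      rw [← MonoidHom.ker_eq_bot_iff]
      by_contra hb
      have hle := h.N_le hb
      have hcomm : ∀ a ∈ h.N, ∀ b ∈ h.N, a * b = b * a := by
        intro a ha b hb'
        have h1 : ι a = 1 := MonoidHom.mem_ker.1 (hle ha)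
        have h2 := congrArg e.symm (DFunLike.congr_fun h1 (e ⟨b, hb'⟩))
        simp [ι] at h2
        have h3 : a * b * a⁻¹ = b := congrArg Subtype.val h2
        exact mul_inv_eq_iff_eq_mul.1 h3
      exact hnsN (Group.isSolvable_of_comm fun a b => Subtype.ext (hcomm _ a.2 _ b.2))
    exact ⟨MulEquiv.ofBijective ι ((Nat.bijective_iff_injective_and_card ι).2
      ⟨hinj, hG.trans hAut.symm⟩)⟩

end CfsgLib.TwoTimesAlt.Hyp
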