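import Cfsg.Prelude.Def_TwoFusion
import Cfsg.Agent.Lib.TwoTimesAlt.Extremal
import Cfsg.Agent.Lib.TwoTimesAlt.AltSquare

/-!
A group with no normal subgroup of index two and a 2-central involution `J` whose centraliser is
`⟨J⟩ × A_m`: the degree is `4` or `5`.
-/

set_option autoImplicit false
set_option linter.style.haveILetI false
set_option linter.unusedSectionVars false

open Cfsg

namespace CfsgLib.TwoTimesAlt

theorem two_sq : ∀ m : Multiplicative (ZMod 2), m * m = 1 := by decide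

theorem two_ne : (Multiplicative.ofAdd 1 : Multiplicative (ZMod 2)) ≠ 1 := by decide

/-- The hypotheses. -/
structure Hyp (G : Type*) [Group G] where
  m : ℕ
  J : G
  S : Sylow 2 G
  T : Subgroup G
  hJ : orderOf J = 2
  hJS : J ∈ S
  hS : ∀ x ∈ S, x * J = J * x
  eT : ↥T ≃* ↥(alternatingGroup (Fin m))
  hd : IsInternalDirectProduct (Subgroup.zpowers J) T (Subgroup.centralizer ({J} : Set G))
  h2 : ∀ N : Subgroup G, N.Normal → N.index ≠ 2

namespace Hyp

variable {G : Type*} [Group G] [Finite G] (h : Hyp G)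

/-- The centraliser of `J`. -/
abbrev C : Subgroup G := Subgroup.centralizer ({h.J} : Set G)

/-- The trace of the Sylow subgroup on the alternating factor. -/
def V : Subgroup G := (h.S : Subgroup G) ⊓ h.T

theorem mem_C {x : G} : x ∈ h.C ↔ x * h.J = h.J * x := Subgroup.mem_centralizer_singleton_iff

theorem J_sq : h.J * h.J = 1 := by rw [← pow_two, ← h.hJ, pow_orderOf_eq_one]

theorem J_ne_one : h.J ≠ 1 := fun e => by simpa [e] using h.hJ

theorem J_mem_C : h.J ∈ h.C := h.mem_C.2 rfl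

theorem T_le : h.T ≤ h.C := h.hd.2.1

theorem S_le : (h.S : Subgroup G) ≤ h.C := fun x hx => h.mem_C.2 (h.hS x hx)

theorem T_comm {t : G} (ht : t ∈ h.T) : h.J * t = t * h.J := (h.mem_C.1 (h.T_le ht)).symm

theorem J_notMem_T : h.J ∉ h.T := fun hT => h.J_ne_one <| by
  have : h.J ∈ Subgroup.zpowers h.J ⊓ h.T := ⟨Subgroup.mem_zpowers _, hT⟩
  rwa [h.hd.2.2.2.1, Subgroup.mem_bot] at this

theorem cases_of_mem {x : G} (hx : x ∈ h.C) : x ∈ h.T ∨ h.J * x ∈ h.T := by
  let K : Subgroup G :=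
    { carrier := {x | x ∈ h.C ∧ (x ∈ h.T ∨ h.J * x ∈ h.T)}
      one_mem' := ⟨one_mem _, Or.inl (one_mem _)⟩
      mul_mem' := by
        rintro a b ⟨ha, ha'⟩ ⟨hb, hb'⟩
        refine ⟨mul_mem ha hb, ?_⟩
        have c := h.mem_C.1 ha
        rcases ha' with ha' | ha' <;> rcases hb' with hb' | hb'
        · exact Or.inl (mul_mem ha' hb')
        · exact Or.inr (by
            rw [show h.J * (a * b) = a * (h.J * b) by rw [← mul_assoc, ← c, mul_assoc]]
            exact mul_mem ha' hb')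
        · exact Or.inr (by rw [← mul_assoc]; exact mul_mem ha' hb')
        · refine Or.inl ?_
          have := mul_mem ha' hb'
          rwa [show h.J * a * (h.J * b) = a * b by
            rw [← c, mul_assoc a, ← mul_assoc h.J, h.J_sq, one_mul]] at this
      inv_mem' := by
        rintro a ⟨ha, ha'⟩
        refine ⟨inv_mem ha, ?_⟩
        rcases ha' with ha' | ha'
        · exact Or.inl (inv_mem ha')
        · refine Or.inr ?_
          have e : (h.J * a)⁻¹ = h.J * a⁻¹ := by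
            rw [mul_inv_rev, inv_eq_of_mul_eq_one_right h.J_sq]
            exact h.mem_C.1 (inv_mem ha)
          exact e ▸ inv_mem ha' }
  have hle : Subgroup.zpowers h.J ⊔ h.T ≤ K := by
    refine sup_le (Subgroup.zpowers_le.2 ⟨h.J_mem_C, Or.inr ?_⟩) fun t ht => ⟨h.T_le ht, Or.inl ht⟩
    rw [h.J_sq]
    exact one_mem _
  exact (hle (h.hd.2.2.2.2.symm ▸ hx : x ∈ Subgroup.zpowers h.J ⊔ h.T)).2

theorem relIndex_eq_two {A B : Subgroup G} (hJB : h.J ∈ B) (hAT : A = B ⊓ h.T) (hBC : B ≤ h.C) :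
    A.relIndex B = 2 := by
  rw [Subgroup.relIndex, Subgroup.index_eq_two_iff]
  refine ⟨⟨h.J, hJB⟩, fun b => ?_⟩
  have hb := h.cases_of_mem (hBC b.2)
  have hcomm := h.mem_C.1 (hBC b.2)
  simp only [Subgroup.mem_subgroupOf, Subgroup.coe_mul, hAT, Subgroup.mem_inf, b.2, mul_mem b.2 hJB,
    true_and]
  rw [hcomm]
  rcases hb with hb | hb
  · refine Or.inr ⟨hb, fun hc => h.J_notMem_T ?_⟩
    rw [show h.J = h.J * b * (b : G)⁻¹ by group]
    exact mul_mem hc (inv_mem hb)
  · refine Or.inl ⟨hb, fun hc => h.J_notMem_T ?_⟩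
    rw [show h.J = h.J * b * (b : G)⁻¹ by group]
    exact mul_mem hb (inv_mem hc)

theorem V_le_S : h.V ≤ (h.S : Subgroup G) := inf_le_left

theorem V_le_T : h.V ≤ h.T := inf_le_right

theorem relIndex_V : h.V.relIndex (h.S : Subgroup G) = 2 := h.relIndex_eq_two h.hJS rfl h.S_le

theorem odd_relIndex_S : Odd ((h.S : Subgroup G).relIndex h.C) := by
  haveI : Fact (Nat.Prime 2) := ⟨Nat.prime_two⟩
  exact (Nat.odd_iff.2 (Nat.two_dvd_ne_zero.1 h.S.not_dvd_index)).of_dvd_nat
    (Subgroup.relIndex_dvd_index_of_le h.S_le)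

theorem card_mul_relIndex {A B : Subgroup G} (hAB : A ≤ B) :
    Nat.card A * A.relIndex B = Nat.card B := by
  rw [Subgroup.relIndex, ← Nat.card_congr (Subgroup.subgroupOfEquivOfLe hAB).toEquiv]
  exact Subgroup.card_mul_index _

theorem odd_relIndex_V : Odd (h.V.relIndex h.T) := by
  have hC : h.T.relIndex h.C = 2 :=
    h.relIndex_eq_two h.J_mem_C (inf_eq_right.2 h.T_le).symm le_rfl
  have e1 := card_mul_relIndex h.T_le
  have e2 := card_mul_relIndex h.S_le
  have e3 := card_mul_relIndex h.V_le_S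
  have e4 := card_mul_relIndex h.V_le_T
  rw [hC] at e1
  rw [h.relIndex_V] at e3
  rw [← e3, ← e1, ← e4] at e2
  have heq : (h.S : Subgroup G).relIndex h.C = h.V.relIndex h.T := by
    refine Nat.eq_of_mul_eq_mul_left (show 0 < Nat.card h.V * 2 from Nat.mul_pos Nat.card_pos two_pos) ?_
    rw [e2]; ring
  exact heq ▸ h.odd_relIndex_S

theorem not_index_two_mem : h.J ∉ h.V := fun hV => h.J_notMem_T (h.V_le_T hV)

/-- A conjugate of `J` in the alternating factor, central in the Sylow subgroup. -/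
theorem exists_conj_V : ∃ g : G, g * h.J * g⁻¹ ∈ h.V ∧
    ∀ s ∈ h.S, s * (g * h.J * g⁻¹) = g * h.J * g⁻¹ * s := by
  obtain ⟨g, hg, hodd, -⟩ := exists_extremal_conj h.h2 h.S h.V h.V_le_S h.relIndex_V h.J h.hJ h.hJS
    h.not_index_two_mem
  refine ⟨g, hg, fun s hs => ?_⟩
  set y := g * h.J * g⁻¹ with hy
  set Cy := Subgroup.centralizer ({y} : Set G) with hCy
  have hmap : h.C.map (MulAut.conj g).toMonoidHom = Cy := by
    ext z
    constructor
    · rintro ⟨w, hw, rfl⟩
      refine Subgroup.mem_centralizer_singleton_iff.2 ?_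
      show g * w * g⁻¹ * y = y * (g * w * g⁻¹)
      rw [hy, show g * w * g⁻¹ * (g * h.J * g⁻¹) = g * (w * h.J) * g⁻¹ by group, h.mem_C.1 hw]
      group
    · intro hz
      refine ⟨g⁻¹ * z * g, h.mem_C.2 ?_, by simp [mul_assoc]⟩
      have e := Subgroup.mem_centralizer_singleton_iff.1 hz
      calc g⁻¹ * z * g * h.J = g⁻¹ * (z * y) * g := by rw [hy]; group
        _ = g⁻¹ * (y * z) * g := by rw [e]
        _ = h.J * (g⁻¹ * z * g) := by rw [hy]; group
  have hcard : Nat.card Cy = Nat.card h.C := by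
    rw [← hmap]
    exact Subgroup.card_map_of_injective (MulAut.conj g).injective
  have e1 := card_mul_relIndex (inf_le_right : (h.S : Subgroup G) ⊓ Cy ≤ Cy)
  have e2 := card_mul_relIndex h.S_le
  have hdvd : Nat.card (h.S : Subgroup G) ∣ Nat.card ↥((h.S : Subgroup G) ⊓ Cy) := by
    haveI : Fact (Nat.Prime 2) := ⟨Nat.prime_two⟩
    obtain ⟨k, hk⟩ := IsPGroup.iff_card.1 h.S.2
    rw [hk]
    have h' : Nat.card (h.S : Subgroup G) ∣
        Nat.card ↥((h.S : Subgroup G) ⊓ Cy) * ((h.S : Subgroup G) ⊓ Cy).relIndex Cy := by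
      rw [e1, hcard, ← e2]; exact dvd_mul_right _ _
    rw [hk] at h'
    refine (Nat.Coprime.pow_left k ?_).dvd_of_dvd_mul_right h'
    exact Nat.prime_two.coprime_iff_not_dvd.2 hodd
  have heq : (h.S : Subgroup G) ⊓ Cy = (h.S : Subgroup G) :=
    Subgroup.eq_of_le_of_card_ge inf_le_left (Nat.le_of_dvd Nat.card_pos hdvd)
  exact Subgroup.mem_centralizer_singleton_iff.1 ((inf_eq_left.1 heq) hs)

theorem four_le : 4 ≤ h.m := by
  by_contra hm
  push Not at hm
  obtain ⟨g, hg, -⟩ := h.exists_conj_V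
  have hord : orderOf (⟨_, h.V_le_T hg⟩ : h.T) = 2 := by
    rw [← Subgroup.orderOf_coe]
    show orderOf (g * h.J * g⁻¹) = 2
    rw [← h.hJ]
    exact orderOf_injective (MulAut.conj g).toMonoidHom (MulAut.conj g).injective h.J
  have h2 : 2 ∣ Nat.card h.T := hord ▸ orderOf_dvd_natCard _
  rw [Nat.card_congr h.eT.toEquiv, Nat.card_eq_fintype_card] at h2
  revert h2
  have key : ∀ k < 4, ¬ 2 ∣ Fintype.card (alternatingGroup (Fin k)) := by
    intro k hk
    interval_cases k <;> decide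
  exact key _ hm

theorem le_five : h.m ≤ 5 := by
  classical
  haveI : Fact (Nat.Prime 2) := ⟨Nat.prime_two⟩
  by_contra hm
  obtain ⟨g, hg, hcen⟩ := h.exists_conj_V
  set y := g * h.J * g⁻¹ with hy
  obtain ⟨n, hn, hJn⟩ := Sylow.conj_eq_normalizer_conj_of_mem_centralizer h.S y g
    (Subgroup.mem_centralizer_iff.2 fun s hs => hcen s hs)
    (Subgroup.mem_centralizer_iff.2 fun s hs => by
      rw [show g⁻¹ * y * g = h.J by rw [hy]; group]; exact h.hS s hs)
  rw [show g⁻¹ * y * g = h.J by rw [hy]; group] at hJn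
  have hconjS : ∀ s ∈ (h.S : Subgroup G), n⁻¹ * s * n ∈ (h.S : Subgroup G) := fun s hs => by
    have := (Subgroup.mem_normalizer_iff.1 (inv_mem hn) s).1 hs
    rwa [inv_inv] at this
  let χ : ↥(h.S : Subgroup G) → Multiplicative (ZMod 2) :=
    fun s => if (s : G) ∈ h.V then 1 else Multiplicative.ofAdd 1
  have hχ : ∀ a b, χ (a * b) = χ a * χ b := by
    intro a b
    have hi : (h.V.subgroupOf (h.S : Subgroup G)).index = 2 := h.relIndex_V
    have := Subgroup.mul_mem_iff_of_index_two hi (a := a) (b := b)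
    simp only [Subgroup.mem_subgroupOf, Subgroup.coe_mul] at this
    by_cases ha : (a : G) ∈ h.V <;> by_cases hb : (b : G) ∈ h.V <;>
      simp [χ, this, ha, hb, two_sq]
  let P : Subgroup h.T := h.V.subgroupOf h.T
  let f : P →* Multiplicative (ZMod 2) :=
    { toFun := fun p => χ ⟨n⁻¹ * ((p : h.T) : G) * n,
        hconjS _ (h.V_le_S (Subgroup.mem_subgroupOf.1 p.2))⟩
      map_one' := by simp [χ, one_mem]
      map_mul' := fun a b => by
        rw [← hχ]
        congr 1
        exact Subtype.ext (by simp [mul_assoc]) }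
  have hyT : y ∈ h.T := h.V_le_T hg
  have hsq : (⟨y, hyT⟩ : h.T) ∈
      Subgroup.closure {x : h.T | ∃ w, w * ⟨y, hyT⟩ = ⟨y, hyT⟩ * w ∧ x = w * w} := by
    have hyy : h.eT ⟨y, hyT⟩ * h.eT ⟨y, hyT⟩ = 1 := by
      rw [← map_mul, ← map_one h.eT]
      refine congrArg h.eT (Subtype.ext ?_)
      show y * y = 1
      rw [hy, show g * h.J * g⁻¹ * (g * h.J * g⁻¹) = g * (h.J * h.J) * g⁻¹ by group, h.J_sq]
      group
    have hm6 := alt_mem_closure_squares (show 6 ≤ h.m by omega) (h.eT ⟨y, hyT⟩) hyy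
    have hle : Subgroup.closure {x | ∃ w, w * h.eT ⟨y, hyT⟩ = h.eT ⟨y, hyT⟩ * w ∧ x = w * w} ≤
        (Subgroup.closure {x : h.T | ∃ w, w * ⟨y, hyT⟩ = ⟨y, hyT⟩ * w ∧ x = w * w}).map
          h.eT.toMonoidHom := by
      rw [Subgroup.closure_le]
      rintro _ ⟨w, hw, rfl⟩
      refine ⟨h.eT.symm w * h.eT.symm w, Subgroup.subset_closure ⟨_, ?_, rfl⟩, by simp⟩
      apply h.eT.injective
      simp [hw]
    obtain ⟨x, hx, hxy⟩ := hle hm6
    have hx' : x = ⟨y, hyT⟩ := h.eT.injective hxy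
    subst hx'
    exact hx
  have hodd : Odd P.index := h.odd_relIndex_V
  have h1 := hom_eq_one_of_squares (M := Multiplicative (ZMod 2)) two_sq P hodd ⟨y, hyT⟩
    (Subgroup.mem_subgroupOf.2 hg)
    (fun p hp => Subtype.ext (hcen _ (h.V_le_S (Subgroup.mem_subgroupOf.1 hp)))) hsq f
  have h2 : f ⟨⟨y, hyT⟩, Subgroup.mem_subgroupOf.2 hg⟩ = Multiplicative.ofAdd 1 := by
    show (if n⁻¹ * y * n ∈ h.V then (1 : Multiplicative (ZMod 2)) else Multiplicative.ofAdd 1) = _
    rw [← hJn, if_neg h.not_index_two_mem]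
  rw [h2] at h1
  exact two_ne h1

end Hyp

end CfsgLib.TwoTimesAlt
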