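import Mathlib

/-!
Facts about `A₄` and `A₅`.
-/

set_option autoImplicit false
set_option maxRecDepth 100000
set_option synthInstance.maxSize 2000
set_option synthInstance.maxHeartbeats 200000

namespace CfsgLib.TwoTimesAlt

/-- The facts used about the alternating factor. -/
structure SmallFacts (A : Type*) [Group A] : Prop where
  one_class : ∀ a b : A, a * a = 1 → a ≠ 1 → b * b = 1 → b ≠ 1 → ∃ g, g * a * g⁻¹ = b
  sq_of_four : ∀ a : A, a ^ 4 = 1 → a * a = 1
  comm_invol : ∀ a : A, a * a ≠ 1 → ∃ g, ∃ i j : Fin 5,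
    a ^ (i : ℕ) * (g * a ^ (j : ℕ) * g⁻¹) ≠ 1 ∧
      a ^ (i : ℕ) * (g * a ^ (j : ℕ) * g⁻¹) * (a ^ (i : ℕ) * (g * a ^ (j : ℕ) * g⁻¹)) = 1
  self_cent : ∀ a : A, (∀ b, b * b = 1 → a * b = b * a) → a * a = 1
  card : Nat.card A = 12 ∨ Nat.card A = 60

theorem facts_four : SmallFacts (alternatingGroup (Fin 4)) where
  one_class := by decide +kernel
  sq_of_four := by decide +kernel
  comm_invol := by decide +kernel
  self_cent := by decide +kernel
  card := Or.inl (by rw [Nat.card_eq_fintype_card]; decide +kernel)

theorem facts_five : SmallFacts (alternatingGroup (Fin 5)) where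
  one_class := by decide +kernel
  sq_of_four := by decide +kernel
  comm_invol := by decide +kernel
  self_cent := by decide +kernel
  card := Or.inr (by rw [Nat.card_eq_fintype_card]; decide +kernel)

theorem five_gen : ∀ a : alternatingGroup (Fin 5), ∃ b c : alternatingGroup (Fin 5),
    b * b = 1 ∧ c * c = 1 ∧ a = b * c := by decide +kernel

theorem four_sq_mul : ∀ a b : alternatingGroup (Fin 4), a * a = 1 → b * b = 1 → a * b = b * a := by
  decide +kernel

theorem four_gen : ∀ a : alternatingGroup (Fin 4), a * a ≠ 1 → ∀ b : alternatingGroup (Fin 4),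
    ∃ v : alternatingGroup (Fin 4), v * v = 1 ∧ (b = v ∨ b = v * a ∨ b = v * a * a) := by
  decide +kernel

theorem four_three : ∃ a : alternatingGroup (Fin 4), a * a ≠ 1 ∧ a ^ 3 = 1 := by decide +kernel

theorem four_solvable : Group.IsSolvable (alternatingGroup (Fin 4)) := by
  let K : Subgroup (alternatingGroup (Fin 4)) :=
    { carrier := {a | a * a = 1}
      one_mem' := mul_one 1
      mul_mem' := fun {a b} ha hb => (show ∀ a b : alternatingGroup (Fin 4), a * a = 1 → b * b = 1 →
        a * b * (a * b) = 1 by decide +kernel) a b ha hb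
      inv_mem' := fun {a} ha => by
        show a⁻¹ * a⁻¹ = 1
        rw [← mul_inv_rev, show a * a = 1 from ha, inv_one] }
  haveI : K.Normal := ⟨fun a ha g => by
    show g * a * g⁻¹ * (g * a * g⁻¹) = 1
    rw [show g * a * g⁻¹ * (g * a * g⁻¹) = g * (a * a) * g⁻¹ by group, show a * a = 1 from ha]
    group⟩
  haveI hK : Group.IsSolvable K := Group.isSolvable_of_comm fun a b =>
    Subtype.ext (four_sq_mul a b a.2 b.2)
  have hcard : Nat.card (alternatingGroup (Fin 4) ⧸ K) = 3 := by
    have h := Subgroup.card_eq_card_quotient_mul_card_subgroup K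
    rw [show Nat.card (alternatingGroup (Fin 4)) = 12 by
      rw [Nat.card_eq_fintype_card]; decide +kernel,
      show Nat.card K = 4 by
        rw [show Nat.card K = Nat.card {a : alternatingGroup (Fin 4) // a * a = 1} from rfl,
          Nat.card_eq_fintype_card]
        decide +kernel] at h
    omega
  haveI : Fact (Nat.Prime 3) := ⟨Nat.prime_three⟩
  haveI := isCyclic_of_prime_card hcard
  haveI : Group.IsSolvable (alternatingGroup (Fin 4) ⧸ K) :=
    Group.isSolvable_of_comm fun a b => (IsCyclic.commGroup (α := alternatingGroup (Fin 4) ⧸ K)).mul_comm a b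
  exact Group.isSolvable_of_ker_le_range K.subtype (QuotientGroup.mk' K)
    (by rw [QuotientGroup.ker_mk', Subgroup.range_subtype])

end CfsgLib.TwoTimesAlt
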