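import Cfsg.Agent.Lib.TwoTimesAlt.Setting
import Cfsg.Agent.Lib.TwoTimesAlt.Small
import Cfsg.Agent.S0205

/-!
The degrees `4` and `5`: one class of involutions, trivial odd normal subgroups, and a perfect
normal subgroup transitive on the involutions.
-/

set_option autoImplicit false
set_option linter.style.haveILetI false
set_option linter.unusedSectionVars false

open Cfsg

namespace CfsgLib.TwoTimesAlt.Hyp

variable {G : Type*} [Group G] [Finite G] (h : Hyp G)
omit [Finite G] in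
theorem orderOf_two {x : G} (hx : x * x = 1) (h1 : x ≠ 1) : orderOf x = 2 :=
  orderOf_eq_prime (by rw [pow_two]; exact hx) h1

omit [Finite G] in
theorem sq_of_orderOf {x : G} (hx : orderOf x = 2) : x * x = 1 := by
  rw [← pow_two, ← hx, pow_orderOf_eq_one]

include h

theorem facts : SmallFacts (alternatingGroup (Fin h.m)) := by
  have h4 := h.four_le
  have h5 := h.le_five
  rcases (show h.m = 4 ∨ h.m = 5 by omega) with e | e <;> rw [e]
  exacts [facts_four, facts_five]

/-- An element of `T` from one of the alternating group. -/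
theorem eT_inj {a b : h.T} (e : h.eT a = h.eT b) : (a : G) = b := congrArg Subtype.val (h.eT.injective e)

theorem card_V : Nat.card h.V = 4 := by
  haveI : Fact (Nat.Prime 2) := ⟨Nat.prime_two⟩
  have e := card_mul_relIndex h.V_le_T
  obtain ⟨r, hr⟩ := h.odd_relIndex_V
  obtain ⟨k, hk⟩ := IsPGroup.iff_card.1 (h.S.2.to_le h.V_le_S)
  rw [hk, hr, Nat.card_congr h.eT.toEquiv] at e
  rw [hk]
  rcases h.facts.card with hc | hc <;> rw [hc] at e
  all_goals
    rcases k with _ | _ | _ | k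
    · simp at e; omega
    · simp at e; omega
    · rfl
    · rw [show 2 ^ (k + 1 + 1 + 1) * (2 * r + 1) = 8 * (2 ^ k * (2 * r + 1)) by ring] at e
      omega

theorem card_S : Nat.card (h.S : Subgroup G) = 8 := by
  have e := card_mul_relIndex h.V_le_S
  rw [h.card_V, h.relIndex_V] at e
  omega

theorem V_sq {v : G} (hv : v ∈ h.V) : v * v = 1 := by
  have h4 : (⟨v, h.V_le_T hv⟩ : h.T) ^ 4 = 1 := by
    have := congrArg (fun x : h.V => (x : G)) (pow_card_eq_one' (x := (⟨v, hv⟩ : h.V)))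
    rw [h.card_V] at this
    exact Subtype.ext (by simpa using this)
  have := h.facts.sq_of_four _ (by rw [← map_pow, h4, map_one] : h.eT ⟨v, h.V_le_T hv⟩ ^ 4 = 1)
  rw [← map_mul, ← map_one h.eT] at this
  exact congrArg Subtype.val (h.eT.injective this)

theorem S_sq {x : G} (hx : x ∈ h.S) : x * x = 1 := by
  rcases h.cases_of_mem (h.S_le hx) with hT | hT
  · exact h.V_sq ⟨hx, hT⟩
  · have e := h.V_sq ⟨mul_mem h.hJS hx, hT⟩
    rwa [show h.J * x * (h.J * x) = x * x from
      calc h.J * x * (h.J * x) = h.J * (x * h.J) * x := by group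
        _ = h.J * (h.J * x) * x := by rw [h.hS x hx]
        _ = x * x := by rw [← mul_assoc h.J, h.J_sq, one_mul]] at e

theorem S_comm {a b : G} (ha : a ∈ h.S) (hb : b ∈ h.S) : a * b = b * a := by
  have e := h.S_sq (mul_mem ha hb)
  calc a * b = a * b * (b * a) * (b * a)⁻¹ := by group
    _ = (b * a)⁻¹ := by rw [show a * b * (b * a) = a * (b * b) * a by group, h.S_sq hb, mul_one,
          h.S_sq ha, one_mul]
    _ = a⁻¹ * b⁻¹ := mul_inv_rev b a
    _ = a * b := by rw [inv_eq_of_mul_eq_one_right (h.S_sq ha), inv_eq_of_mul_eq_one_right (h.S_sq hb)]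
    _ = (a * b)⁻¹ := (inv_eq_of_mul_eq_one_right e).symm
    _ = b * a := by rw [mul_inv_rev, inv_eq_of_mul_eq_one_right (h.S_sq ha),
          inv_eq_of_mul_eq_one_right (h.S_sq hb)]

theorem mem_S_of_comm {a : G} (ha : a * a = 1) (hc : ∀ s ∈ h.S, a * s = s * a) : a ∈ h.S := by
  haveI : Fact (Nat.Prime 2) := ⟨Nat.prime_two⟩
  have hz : IsPGroup 2 (Subgroup.zpowers a) := by
    refine IsPGroup.of_card_dvd_pow (n := 1) ?_
    rw [Nat.card_zpowers, pow_one]
    exact orderOf_dvd_of_pow_eq_one (by rw [pow_two]; exact ha)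
  have hle : Subgroup.zpowers a ≤ Subgroup.normalizer ((h.S : Subgroup G) : Set G) :=
    Subgroup.zpowers_le.2 (Subgroup.centralizer_le_normalizer _
      (Subgroup.mem_centralizer_iff.2 fun s hs => (hc s hs).symm))
  have hsup : IsPGroup 2 (↥((h.S : Subgroup G) ⊔ Subgroup.zpowers a)) := by
    rw [sup_comm]
    exact IsPGroup.to_sup_of_normal_right' hz h.S.2 hle
  have := h.S.is_maximal' hsup le_sup_left
  show a ∈ (h.S : Subgroup G)
  rw [← this]
  exact Subgroup.mem_sup_right (Subgroup.mem_zpowers a)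

theorem isConj_of_mem_T {a b : G} (ha : a ∈ h.T) (hb : b ∈ h.T) (ha2 : orderOf a = 2)
    (hb2 : orderOf b = 2) : IsConj a b := by
  have key : ∀ {x : G} (hx : x ∈ h.T), orderOf x = 2 →
      h.eT ⟨x, hx⟩ * h.eT ⟨x, hx⟩ = 1 ∧ h.eT ⟨x, hx⟩ ≠ 1 := by
    intro x hx hx2
    refine ⟨?_, fun e => ?_⟩
    · rw [← map_mul, ← map_one h.eT]
      exact congrArg h.eT (Subtype.ext (sq_of_orderOf hx2))
    · have : (⟨x, hx⟩ : h.T) = 1 := h.eT.injective (e.trans (map_one _).symm)
      rw [show x = 1 from congrArg Subtype.val this, orderOf_one] at hx2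
      omega
  obtain ⟨g, hg⟩ := h.facts.one_class _ _ (key ha ha2).1 (key ha ha2).2 (key hb hb2).1 (key hb hb2).2
  refine isConj_iff.2 ⟨(h.eT.symm g : G), ?_⟩
  have : h.eT.symm g * ⟨a, ha⟩ * (h.eT.symm g)⁻¹ = (⟨b, hb⟩ : h.T) := h.eT.injective (by simp [hg])
  exact congrArg Subtype.val this

theorem isConj_J {x : G} (hx : orderOf x = 2) : IsConj h.J x := by
  haveI : Fact (Nat.Prime 2) := ⟨Nat.prime_two⟩
  obtain ⟨g, hg, -⟩ := h.exists_conj_V
  have hV : ∀ {v : G}, v ∈ h.V → orderOf v = 2 → IsConj h.J v := fun {v} hv hv2 =>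
    (isConj_iff.2 ⟨g, rfl⟩).trans (h.isConj_of_mem_T (h.V_le_T hg) (h.V_le_T hv)
      (by rw [← h.hJ]; exact orderOf_injective (MulAut.conj g).toMonoidHom (MulAut.conj g).injective h.J)
      hv2)
  have hz : IsPGroup 2 (Subgroup.zpowers x) :=
    IsPGroup.of_card (n := 1) (by rw [Nat.card_zpowers, hx, pow_one])
  obtain ⟨P, hP⟩ := hz.exists_le_sylow
  obtain ⟨k, hk⟩ := MulAction.exists_smul_eq G P h.S
  have hxS : k * x * k⁻¹ ∈ (h.S : Subgroup G) := by
    rw [← hk, Sylow.coe_subgroup_smul]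
    exact ⟨x, hP (Subgroup.mem_zpowers x), rfl⟩
  have hord : orderOf (k * x * k⁻¹) = 2 := by
    rw [← hx]; exact orderOf_injective (MulAut.conj k).toMonoidHom (MulAut.conj k).injective x
  refine IsConj.trans ?_ (isConj_iff.2 ⟨k, rfl⟩).symm
  by_cases hv : k * x * k⁻¹ ∈ h.V
  · exact hV hv hord
  · obtain ⟨g', hg', -, -⟩ := exists_extremal_conj h.h2 h.S h.V h.V_le_S h.relIndex_V _ hord hxS hv
    refine (hV hg' ?_).trans (isConj_iff.2 ⟨g', rfl⟩).symm
    rw [← hord]; exact orderOf_injective (MulAut.conj g').toMonoidHom (MulAut.conj g').injective _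

theorem eq_one_of_odd_normal {O : Subgroup G} [O.Normal] (hO : Odd (Nat.card O)) {x c : G}
    (hx : orderOf x = 2) (hc : c ∈ O) (hcomm : c * x = x * c) : c = 1 := by
  obtain ⟨g, hg⟩ := isConj_iff.1 (h.isConj_J hx)
  -- transport to `J`
  suffices key : ∀ d ∈ O, d * h.J = h.J * d → d = 1 by
    have hd := key (g⁻¹ * c * g) (by simpa using ‹O.Normal›.conj_mem c hc g⁻¹) (by
      rw [show g⁻¹ * c * g * h.J = g⁻¹ * (c * (g * h.J * g⁻¹)) * g by group, hg, hcomm, ← hg]; group)
    rw [show c = g * (g⁻¹ * c * g) * g⁻¹ by group, hd]; group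
  intro d hd hdJ
  have hodd : Odd (orderOf d) := by
    refine hO.of_dvd_nat ?_
    rw [← Subgroup.orderOf_mk d hd]
    exact orderOf_dvd_natCard _
  have hdC : d ∈ h.C := h.mem_C.2 hdJ
  have hT : d ∈ h.T := by
    refine (h.cases_of_mem hdC).resolve_right fun hT => h.J_notMem_T ?_
    obtain ⟨k, hk⟩ := hodd
    have : (h.J * d) ^ orderOf d = h.J := by
      rw [(show Commute h.J d from hdJ.symm).mul_pow, pow_orderOf_eq_one, mul_one, hk, pow_succ,
        pow_mul, pow_two, h.J_sq, one_pow, one_mul]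
    exact this ▸ pow_mem hT _
  have sq1 : d * d = 1 → d = 1 := fun e => orderOf_eq_one_iff.1 <| by
    have h2 := orderOf_dvd_of_pow_eq_one (by rw [pow_two]; exact e : d ^ 2 = 1)
    rcases (Nat.dvd_prime Nat.prime_two).1 h2 with e1 | e1
    · exact e1
    · rw [e1] at hodd; exact absurd hodd (by decide)
  refine sq1 ?_
  by_contra hdd
  obtain ⟨g', i, j, hne, hsq⟩ := h.facts.comm_invol (h.eT ⟨d, hT⟩) (fun e => hdd (by
    rw [← map_mul, ← map_one h.eT] at e
    exact congrArg Subtype.val (h.eT.injective e)))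
  set w : h.T := (⟨d, hT⟩ : h.T) ^ (i : ℕ) * (h.eT.symm g' * (⟨d, hT⟩ : h.T) ^ (j : ℕ) * (h.eT.symm g')⁻¹)
    with hw
  have hwO : (w : G) ∈ O := by
    rw [hw]
    push_cast
    exact mul_mem (pow_mem hd _) (‹O.Normal›.conj_mem _ (pow_mem hd _) _)
  have himg : h.eT w = h.eT ⟨d, hT⟩ ^ (i : ℕ) * (g' * h.eT ⟨d, hT⟩ ^ (j : ℕ) * g'⁻¹) := by
    rw [hw, map_mul, map_mul, map_mul, map_inv, map_pow, map_pow, MulEquiv.apply_symm_apply]
  have hw2 : orderOf (w : G) = 2 := by
    refine orderOf_two ?_ fun e => hne ?_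
    · have : w * w = 1 := h.eT.injective (by rw [map_mul, himg, map_one]; exact hsq)
      exact congrArg Subtype.val this
    · rw [← himg, show w = 1 from Subtype.ext e, map_one]
  have hdvd : orderOf (w : G) ∣ Nat.card O := by
    rw [← Subgroup.orderOf_mk (w : G) hwO]; exact orderOf_dvd_natCard _
  have := hO.of_dvd_nat hdvd
  rw [hw2] at this
  exact absurd this (by decide)

theorem odd_normal_eq_bot {O : Subgroup G} [O.Normal] (hO : Odd (Nat.card O)) : O = ⊥ := by
  obtain ⟨g, hg, -⟩ := h.exists_conj_V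
  set v := g * h.J * g⁻¹
  have hv2 : orderOf v = 2 := by
    rw [← h.hJ]; exact orderOf_injective (MulAut.conj g).toMonoidHom (MulAut.conj g).injective h.J
  have hinv : ∀ x : G, orderOf x = 2 → ∀ a ∈ O, x * a * x⁻¹ = a⁻¹ := by
    intro x hx a ha
    let φ : O →* O := ((MulAut.conjNormal (H := O)) x).toMonoidHom
    have hxx := sq_of_orderOf hx
    have hφ : MonoidHom.FixedPointFree φ := by
      intro c hc
      have e : x * (c : G) * x⁻¹ = c := congrArg Subtype.val hc
      exact Subtype.ext (h.eq_one_of_odd_normal hO hx c.2 (mul_inv_eq_iff_eq_mul.1 e).symm)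
    have hinvol : Function.Involutive φ := by
      intro c
      apply Subtype.ext
      show x * (x * (c : G) * x⁻¹) * x⁻¹ = c
      rw [show x * (x * (c : G) * x⁻¹) * x⁻¹ = (x * x) * c * (x * x)⁻¹ by group, hxx]
      group
    have := congrFun (hφ.coe_eq_inv_of_involutive hinvol) ⟨a, ha⟩
    exact congrArg Subtype.val this
  rw [eq_bot_iff]
  intro a ha
  rw [Subgroup.mem_bot]
  have hvJ : h.J * v = v * h.J := h.T_comm (h.V_le_T hg)
  have hJv : orderOf (h.J * v) = 2 := by
    refine orderOf_two ?_ fun e => h.J_notMem_T ?_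
    · rw [mul_assoc, ← mul_assoc v, ← hvJ, mul_assoc h.J, sq_of_orderOf hv2, mul_one, h.J_sq]
    · rw [eq_inv_of_mul_eq_one_left e]; exact inv_mem (h.V_le_T hg)
  have e1 : h.J * v * a * (h.J * v)⁻¹ = a := by
    rw [show h.J * v * a * (h.J * v)⁻¹ = h.J * (v * a * v⁻¹) * h.J⁻¹ by group, hinv v hv2 a ha,
      show h.J * a⁻¹ * h.J⁻¹ = (h.J * a * h.J⁻¹)⁻¹ by group, hinv h.J h.hJ a ha, inv_inv]
  exact h.eq_one_of_odd_normal hO hJv ha (mul_inv_eq_iff_eq_mul.1 e1).symm

theorem mem_of_normal {K : Subgroup G} [K.Normal] (hK : K ≠ ⊥) {x : G} (hx : orderOf x = 2) :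
    x ∈ K := by
  have hev : 2 ∣ Nat.card K := by
    by_contra hodd
    exact hK (h.odd_normal_eq_bot (Nat.odd_iff.2 (Nat.two_dvd_ne_zero.1 hodd)))
  haveI : Fact (Nat.Prime 2) := ⟨Nat.prime_two⟩
  obtain ⟨k, hk⟩ := exists_prime_orderOf_dvd_card' (G := K) 2 hev
  obtain ⟨g, hg⟩ := isConj_iff.1 ((h.isConj_J (by rw [Subgroup.orderOf_coe]; exact hk)).symm.trans
    (h.isConj_J hx))
  exact hg ▸ ‹K.Normal›.conj_mem _ k.2 g

/-- The normal subgroup generated by the involutions. -/
def N : Subgroup G := Subgroup.normalClosure {h.J}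

instance : h.N.Normal := Subgroup.normalClosure_normal

theorem N_le {K : Subgroup G} [K.Normal] (hK : K ≠ ⊥) : h.N ≤ K :=
  Subgroup.normalClosure_le_normal (Set.singleton_subset_iff.2 (h.mem_of_normal hK h.hJ))

theorem N_ne_bot : h.N ≠ ⊥ := fun e => h.J_ne_one <| Subgroup.mem_bot.1 <| e ▸
  Subgroup.subset_normalClosure (Set.mem_singleton h.J)

theorem mem_N {x : G} (hx : x * x = 1) : x ∈ h.N := by
  rcases eq_or_ne x 1 with rfl | h1
  · exact one_mem _
  · exact h.mem_of_normal h.N_ne_bot (orderOf_two hx h1)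

theorem S_le_N : (h.S : Subgroup G) ≤ h.N := fun _ hx => h.mem_N (h.S_sq hx)

/-- An element of the centraliser commuting with all involutions of `T` lies in `S`. -/
theorem mem_S_of_comm_T {x : G} (hxC : x ∈ h.C) (hc : ∀ u ∈ h.T, u * u = 1 → x * u = u * x) :
    x ∈ h.S := by
  have aux : ∀ y ∈ h.T, (∀ u ∈ h.T, u * u = 1 → y * u = u * y) → y * y = 1 := by
    intro y hy hcy
    have := h.facts.self_cent (h.eT ⟨y, hy⟩) fun b hb => by
      obtain ⟨b', rfl⟩ := h.eT.surjective b
      rw [← map_mul, ← map_mul]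
      refine congrArg h.eT (Subtype.ext (hcy b' b'.2 ?_))
      exact congrArg Subtype.val (h.eT.injective (by rw [map_mul, hb, map_one]) : b' * b' = 1)
    rw [← map_mul, ← map_one h.eT] at this
    exact congrArg Subtype.val (h.eT.injective this)
  have hsq : x * x = 1 := by
    rcases h.cases_of_mem hxC with hT | hT
    · exact aux x hT hc
    · have e := aux (h.J * x) hT fun u hu hu2 => by
        rw [mul_assoc, hc u hu hu2, ← mul_assoc, h.T_comm hu, mul_assoc]
      rwa [show h.J * x * (h.J * x) = x * x from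
        calc h.J * x * (h.J * x) = h.J * (x * h.J) * x := by group
          _ = h.J * (h.J * x) * x := by rw [h.mem_C.1 hxC]
          _ = x * x := by rw [← mul_assoc h.J, h.J_sq, one_mul]] at e
  refine h.mem_S_of_comm hsq fun s hs => ?_
  rcases h.cases_of_mem (h.S_le hs) with hT | hT
  · exact hc s hT (h.S_sq hs)
  · have e : x * (h.J * s) = h.J * s * x := hc _ hT (h.S_sq (mul_mem h.hJS hs))
    rw [← mul_assoc, h.mem_C.1 hxC, mul_assoc, mul_assoc] at e
    exact mul_left_cancel e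

end CfsgLib.TwoTimesAlt.Hyp
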